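import Groth.Agent.CurveAmpLib.Sep
import Groth.Agent.SemiGlue.Glue
import Groth.Agent.AffContLib.Glue
import Groth.Agent.FinPicLib.Topo
import Mathlib.AlgebraicGeometry.FunctionField
import Mathlib.RingTheory.KrullDimension.Basic

/-!
# Finite sets in affine opens: integral schemes of dimension at most one
-/

set_option autoImplicit false
universe u

open CategoryTheory AlgebraicGeometry TopologicalSpace Opposite
open FinPicLib (IsGen)

noncomputable section

namespace CurveAmpLib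

variable {X : Scheme.{u}}

theorem krullDimLE_affine (hdim : topologicalKrullDim X ≤ 1) (U : X.affineOpens) :
    Ring.KrullDimLE 1 Γ(X, U.1) := by
  rw [Ring.krullDimLE_iff, ← PrimeSpectrum.topologicalKrullDim_eq_ringKrullDim, Nat.cast_one]
  exact U.2.fromSpec.isOpenEmbedding.isInducing.topologicalKrullDim_le.trans hdim

theorem krullDimLE_stalk (hdim : topologicalKrullDim X ≤ 1) (x : X) :
    Ring.KrullDimLE 1 (X.presheaf.stalk x) := by
  obtain ⟨U, hU, hx, -⟩ := exists_isAffineOpen_mem_and_subset (x := x) (U := ⊤) trivial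
  haveI := krullDimLE_affine hdim ⟨U, hU⟩
  letI := X.presheaf.algebra_section_stalk (⟨x, hx⟩ : U)
  haveI := SDivLib.prm_isPrime ⟨U, hU⟩ hx
  haveI : IsLocalization.AtPrime (X.presheaf.stalk x) (SDivLib.prm ⟨U, hU⟩ hx) := hU.isLocalization_stalk ⟨x, hx⟩
  rw [Ring.krullDimLE_iff, IsLocalization.AtPrime.ringKrullDim_eq_height (SDivLib.prm ⟨U, hU⟩ hx) (X.presheaf.stalk x)]
  exact (Ideal.height_le_ringKrullDim_of_ne_top (SDivLib.prm_isPrime ⟨U, hU⟩ hx).ne_top).trans
    (Ring.krullDimLE_iff.mp inferInstance)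

section Integral

variable [IsIntegral X]

/-- The local ring inside the function field. -/
def stalkSub (x : X) : Subring X.functionField := (algebraMap (X.presheaf.stalk x) X.functionField).range

/-- The local ring is the subring. -/
def stalkEquiv (x : X) : X.presheaf.stalk x ≃+* stalkSub x :=
  RingEquiv.ofBijective (algebraMap (X.presheaf.stalk x) X.functionField).rangeRestrict
    ⟨fun _ _ h => IsFractionRing.injective (X.presheaf.stalk x) X.functionField (congrArg Subtype.val h),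
      RingHom.rangeRestrict_surjective _⟩

theorem isFractionRing_stalkSub (x : X) : IsFractionRing (stalkSub x) X.functionField :=
  IsFractionRing.of_field (stalkSub x) _ fun z => by
    obtain ⟨a, b, -, rfl⟩ := IsFractionRing.div_surjective (X.presheaf.stalk x) z
    exact ⟨stalkEquiv x a, stalkEquiv x b, rfl⟩

theorem good_stalkSub [IsLocallyNoetherian X] (hdim : topologicalKrullDim X ≤ 1) {x : X} (hx : ¬ IsGen x) :
    SemiGlue.Good (stalkSub x) := by
  haveI := krullDimLE_stalk hdim x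
  have hd : ringKrullDim (X.presheaf.stalk x) = 1 := by
    refine le_antisymm (Ring.krullDimLE_iff.mp inferInstance) ?_
    by_contra hlt
    haveI : Ring.KrullDimLE 0 (X.presheaf.stalk x) := Ring.krullDimLE_iff.mpr (Order.le_of_lt_succ (not_le.mp hlt))
    refine hx fun z hz => ?_
    obtain ⟨p, hp⟩ : z ∈ Set.range (X.fromSpecStalk x) := by rw [X.range_fromSpecStalk]; exact hz
    have : p = IsLocalRing.closedPoint (X.presheaf.stalk x) :=
      PrimeSpectrum.ext (IsLocalRing.eq_maximalIdeal (Ideal.isMaximal_of_isPrime p.asIdeal))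
    rw [← hp, this, X.fromSpecStalk_closedPoint]
  haveI : IsLocalRing (stalkSub x) := RingEquiv.isLocalRing (stalkEquiv x)
  exact ⟨isFractionRing_stalkSub x, isNoetherianRing_of_ringEquiv _ (stalkEquiv x),
    (ringKrullDim_eq_of_ringEquiv (stalkEquiv x)).symm.trans hd, inferInstance⟩

theorem germ_toFF {U : X.Opens} [Nonempty U] {x : X} (hx : x ∈ U) (s : Γ(X, U)) :
    algebraMap (X.presheaf.stalk x) X.functionField (X.presheaf.germ U x hx s) = X.germToFunctionField U s :=
  X.algebraMap_germ_eq_germToFunctionField hx s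

theorem sup_eq_top [X.IsSeparated] (hdim : topologicalKrullDim X ≤ 1) {x y : X} (hxy : x ≠ y) :
    stalkSub x ⊔ stalkSub y = ⊤ := by
  by_contra hne
  haveI := krullDimLE_stalk hdim x
  haveI := krullDimLE_stalk hdim y
  have hfrac : IsFractionRing (stalkSub x ⊔ stalkSub y : Subring X.functionField) X.functionField := by
    refine IsFractionRing.of_field _ _ fun z => ?_
    obtain ⟨a, b, -, rfl⟩ := IsFractionRing.div_surjective (X.presheaf.stalk x) z
    exact ⟨⟨_, (le_sup_left : stalkSub x ≤ _) (stalkEquiv x a).2⟩, ⟨_, (le_sup_left : stalkSub x ≤ _) (stalkEquiv x b).2⟩, rfl⟩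
  obtain ⟨O, hO, hOt⟩ := exists_valuation _ hfrac hne
  obtain ⟨Ux, hUx, hxU, -⟩ := exists_isAffineOpen_mem_and_subset (x := x) (U := ⊤) trivial
  obtain ⟨Uy, hUy, hyU, -⟩ := exists_isAffineOpen_mem_and_subset (x := y) (U := ⊤) trivial
  have hη : genericPoint X ∈ Ux ⊓ Uy :=
    ⟨((genericPoint_spec X).mem_open_set_iff Ux.2).mpr ⟨x, trivial, hxU⟩,
      ((genericPoint_spec X).mem_open_set_iff Uy.2).mpr ⟨y, trivial, hyU⟩⟩
  obtain ⟨U₃, hU₃, hη₃, hle⟩ := exists_isAffineOpen_mem_and_subset hη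
  haveI : Nonempty U₃ := ⟨⟨_, hη₃⟩⟩
  haveI : Nonempty Ux := ⟨⟨_, hxU⟩⟩
  haveI : Nonempty Uy := ⟨⟨_, hyU⟩⟩
  have hb : ∀ (z : X) (hz : stalkSub z ≤ O.toSubring) (U : X.affineOpens) (hzU : z ∈ U.1) [Nonempty U.1]
      [Ring.KrullDimLE 1 (X.presheaf.stalk z)],
      UFDExtLib.pt U ((IsLocalRing.maximalIdeal O).comap
        (((Subring.inclusion hz).comp (stalkEquiv z).toRingHom).comp (X.presheaf.germ U.1 z hzU).hom :
          Γ(X, U.1) →+* O.toSubring)) = z := by
    intro z hz U hzU _ _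
    let σ : X.presheaf.stalk z →+* O := (Subring.inclusion hz).comp (stalkEquiv z).toRingHom
    have hQ : (IsLocalRing.maximalIdeal O).comap σ = IsLocalRing.maximalIdeal (X.presheaf.stalk z) := by
      obtain ⟨b, hb0, hbm⟩ := exists_mem_maximalIdeal (isFractionRing_stalkSub z) O hz hOt
      haveI hp : ((IsLocalRing.maximalIdeal O).comap σ).IsPrime := Ideal.IsPrime.comap _
      refine IsLocalRing.eq_maximalIdeal (hp.isMaximal_of_ne_bot fun hbot => hb0 ?_)
      obtain ⟨a, rfl⟩ := (stalkEquiv z).surjective b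
      have : a ∈ (IsLocalRing.maximalIdeal O).comap σ := hbm
      rw [hbot, Ideal.mem_bot] at this
      rw [this, map_zero]
    refine UFDExtLib.eq_of_prm_eq U (UFDExtLib.pt_mem U _) hzU ((UFDExtLib.prm_pt U _).trans ?_)
    ext a
    show σ (X.presheaf.germ U.1 z hzU a) ∈ IsLocalRing.maximalIdeal O ↔ a ∈ SDivLib.prm U hzU
    rw [SDivLib.mem_prm_iff, ← Ideal.mem_comap, hQ, IsLocalRing.mem_maximalIdeal, mem_nonunits_iff]
  have key := centre_eq O ⟨Ux, hUx⟩ ⟨Uy, hUy⟩ ⟨U₃, hU₃⟩ (fun _ h => (hle h).1) (fun _ h => (hle h).2)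
    (((Subring.inclusion (le_sup_left.trans hO : stalkSub x ≤ O.toSubring)).comp (stalkEquiv x).toRingHom).comp (X.presheaf.germ Ux x hxU).hom)
    (((Subring.inclusion (le_sup_right.trans hO : stalkSub y ≤ O.toSubring)).comp (stalkEquiv y).toRingHom).comp (X.presheaf.germ Uy y hyU).hom)
    (X.germToFunctionField U₃).hom
    (fun a => (germ_toFF hxU a).trans (TopCat.Presheaf.germ_res_apply X.presheaf (homOfLE fun _ h => (hle h).1) _ hη₃ a).symm)
    (fun a => (germ_toFF hyU a).trans (TopCat.Presheaf.germ_res_apply X.presheaf (homOfLE fun _ h => (hle h).2) _ hη₃ a).symm)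
  rw [hb x _ ⟨Ux, hUx⟩ hxU, hb y _ ⟨Uy, hUy⟩ hyU] at key
  exact hxy key

/-- Elements of all the local rings at finitely many points are sections near them. -/
theorem exists_section_of_mem {T : Set X} (hT : T.Finite) (g : X.functionField) (hg : ∀ t ∈ T, g ∈ stalkSub t) :
    ∃ (W : X.Opens) (s : Γ(X, W)), T ⊆ W ∧ ∀ t ∈ T, ∀ (ht : t ∈ W),
      algebraMap (X.presheaf.stalk t) X.functionField (X.presheaf.germ W t ht s) = g := by
  classical
  rcases T.eq_empty_or_nonempty with rfl | ⟨t₀, ht₀⟩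
  · exact ⟨⊥, 0, by simp, fun t ht => ht.elim⟩
  haveI := hT.to_subtype
  have : ∀ t : T, ∃ (U : X.Opens) (_ : t.1 ∈ U) (s : Γ(X, U)), ∀ [Nonempty U], X.germToFunctionField U s = g := by
    rintro ⟨t, ht⟩
    obtain ⟨a, ha⟩ := RingHom.mem_range.mp (hg t ht)
    obtain ⟨U, hU, s, rfl⟩ := X.presheaf.exists_germ_eq (x := t) a
    exact ⟨U, hU, s, fun {_} => (germ_toFF hU s).symm.trans ha⟩
  choose U hU s hs using this
  haveI : ∀ t : T, Nonempty (U t) := fun t => ⟨⟨_, hU t⟩⟩
  obtain ⟨σ, hσ, -⟩ := X.sheaf.existsUnique_gluing' U (⨆ t, U t) (fun t => homOfLE (le_iSup U t)) le_rfl s (fun a b => by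
    have hη : genericPoint X ∈ U a ⊓ U b :=
      ⟨((genericPoint_spec X).mem_open_set_iff (U a).2).mpr ⟨a, trivial, hU a⟩,
        ((genericPoint_spec X).mem_open_set_iff (U b).2).mpr ⟨b, trivial, hU b⟩⟩
    haveI : Nonempty ↑↑(U a ⊓ U b) := ⟨⟨_, hη⟩⟩
    refine @Scheme.germToFunctionField_injective X _ (U a ⊓ U b) ⟨⟨_, hη⟩⟩ _ _ ?_
    show X.presheaf.germ _ _ hη (X.presheaf.map (homOfLE inf_le_left).op (s a)) =
      X.presheaf.germ _ _ hη (X.presheaf.map (homOfLE inf_le_right).op (s b))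
    rw [TopCat.Presheaf.germ_res_apply, TopCat.Presheaf.germ_res_apply]
    exact (hs a).trans (hs b).symm)
  refine ⟨⨆ t, U t, σ, fun t ht => Opens.mem_iSup.mpr ⟨⟨t, ht⟩, hU ⟨t, ht⟩⟩, fun t ht htW => ?_⟩
  have h1 : X.presheaf.map (homOfLE (le_iSup U ⟨t, ht⟩)).op σ = s ⟨t, ht⟩ := hσ _
  have h2 : X.presheaf.germ (⨆ t, U t) t htW σ = X.presheaf.germ (U ⟨t, ht⟩) t (hU ⟨t, ht⟩) (s ⟨t, ht⟩) := by
    rw [← h1, TopCat.Presheaf.germ_res_apply]
  rw [h2, germ_toFF]
  exact hs ⟨t, ht⟩

/-- Finitely many closed points lie in an affine open. -/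
theorem exists_affine_of_closed [IsNoetherian X] [X.IsSeparated] (hdim : topologicalKrullDim X ≤ 1) (T : Set X)
    (hT : T.Finite) (hG : ∀ t ∈ T, ¬ IsGen t) : ∃ U : X.Opens, IsAffineOpen U ∧ T ⊆ U := by
  classical
  induction T, hT using Set.Finite.induction_on with
  | empty => exact ⟨⊥, isAffineOpen_bot X, Set.empty_subset _⟩
  | @insert t₀ s hts hs ih =>
    obtain ⟨U, hU, hsU⟩ := ih fun t ht => hG t (Set.mem_insert_of_mem _ ht)
    obtain ⟨V, hV, ht₀V, -⟩ := exists_isAffineOpen_mem_and_subset (X := X) (x := t₀) (U := ⊤) trivial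
    have hfin : (insert t₀ s).Finite := hs.insert t₀
    let ι := {t // t ∈ insert t₀ s}
    haveI : Finite ι := hfin.to_subtype
    haveI := Fintype.ofFinite ι
    have hA : ∀ i : ι, SemiGlue.Good (stalkSub i.1) := fun i => good_stalkSub hdim (hG i.1 i.2)
    obtain ⟨S⟩ := SemiGlue.exists_sep (A := fun i : ι => stalkSub i.1) (R := ⨅ i : ι, stalkSub i.1) hA
      (fun i j h => sup_eq_top hdim fun e => h (Subtype.ext e)) (fun z => Subring.mem_iInf)
    -- a function separating the points outside `U` from those outside `V`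
    let i₀ : ι := ⟨t₀, Set.mem_insert _ _⟩
    haveI : Nonempty ι := ⟨i₀⟩
    let R : Subring X.functionField := ⨅ i : ι, stalkSub i.1
    let m : ι → Ideal R := fun i =>
      (IsLocalRing.maximalIdeal (X.presheaf.stalk i.1)).comap ((stalkEquiv i.1).symm.toRingHom.comp (Subring.inclusion (S.le i)))
    have hmem : ∀ i (a : R), a ∈ m i ↔ (⟨a.1, S.le i a.2⟩ : stalkSub i.1) ∉ {b : stalkSub i.1 | IsUnit b} := by
      intro i a
      show (stalkEquiv i.1).symm (Subring.inclusion (S.le i) a) ∈ IsLocalRing.maximalIdeal _ ↔ _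
      rw [IsLocalRing.mem_maximalIdeal, mem_nonunits_iff]
      exact not_congr (isUnit_map_iff (stalkEquiv i.1).symm _)
    have hne : ∀ i j, i ≠ j → S.elt i ∈ m j ∧ S.elt i ∉ m i := fun i j h => by
      refine ⟨?_, fun hh => (hmem i _).mp hh (S.isUnit_elt i)⟩
      rw [hmem]
      intro hu
      obtain ⟨M, hM⟩ := Ideal.exists_maximal (stalkSub j.1)
      exact hM.ne_top (Ideal.eq_top_of_isUnit_mem M (S.rad i j (Ne.symm h) _ M hM) hu)
    haveI hmp : ∀ i, (m i).IsPrime := fun i => Ideal.IsPrime.comap _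
    have hmax : ∀ i, (m i).IsMaximal := fun i => by
      refine S.isMaximal_of_ne_bot _ (hmp i) fun hb => (hA i).not_isField ?_
      rw [Ring.isField_iff_isSimpleOrder_ideal]
      refine isSimpleOrder_iff_isCoatom_bot.mpr ?_
      obtain ⟨M, hM⟩ := Ideal.exists_maximal (stalkSub i.1)
      have hM0 : M = ⊥ := by
        rw [eq_bot_iff]
        intro a ha
        obtain ⟨n, hn⟩ := S.exists_pow_mem i a.2
        have h1 : (⟨(a : X.functionField) * S.a i ^ n, hn⟩ : R) ∈ m i := by
          rw [hmem]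
          intro hu
          refine hM.ne_top (Ideal.eq_top_of_isUnit_mem M ?_ hu)
          show a * (Subring.inclusion (S.le i) (S.elt i)) ^ n ∈ M
          exact M.mul_mem_right _ ha
        rw [hb, Ideal.mem_bot] at h1
        have h2 : (a : X.functionField) * S.a i ^ n = 0 := congrArg Subtype.val h1
        exact Ideal.mem_bot.mpr (Subtype.ext ((mul_eq_zero.mp h2).resolve_right (pow_ne_zero n (S.ne_zero i))))
      exact (hM0 ▸ hM).out
    have hcop : Pairwise fun i j => IsCoprime (m i) (m j) := fun i j h => by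
      refine Ideal.isCoprime_iff_sup_eq.mpr ?_
      exact (hmax i).coprime_of_ne (hmax j) fun e => (hne i j h).2 (e ▸ (hne i j h).1)
    obtain ⟨g, hg⟩ := Ideal.pi_quotient_surjective hcop fun i => if i = i₀ then 0 else 1
    have hg0 : g ∈ m i₀ := Ideal.Quotient.eq_zero_iff_mem.mp ((hg i₀).trans (if_pos rfl))
    have hg1 : ∀ i, i ≠ i₀ → 1 - g ∈ m i := fun i hi => by
      rw [← Ideal.Quotient.eq_zero_iff_mem, map_sub, map_one, hg i, if_neg hi, sub_self]
    obtain ⟨W, σ, hTW, hσ⟩ := exists_section_of_mem hfin g.1 fun t ht => S.le ⟨t, ht⟩ g.2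
    have hval : ∀ (i : ι) (τ : Γ(X, W)) (r : R),
        algebraMap (X.presheaf.stalk i.1) X.functionField (X.presheaf.germ W i.1 (hTW i.2) τ) = r.1 →
        r ∈ m i → i.1 ∉ X.basicOpen τ := by
      intro i τ r e hr hτ
      refine (hmem i r).mp hr ?_
      have : stalkEquiv i.1 (X.presheaf.germ W i.1 (hTW i.2) τ) = (⟨r.1, S.le i r.2⟩ : stalkSub i.1) := Subtype.ext e
      show IsUnit _
      rw [← this]
      exact ((X.mem_basicOpen τ i.1 (hTW i.2)).mp hτ).map _
    rcases s.eq_empty_or_nonempty with hs0 | ⟨t₁, ht₁⟩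
    · exact ⟨V, hV, fun t ht => by
        rcases Set.mem_insert_iff.mp ht with rfl | ht
        · exact ht₀V
        · exact absurd ht (hs0 ▸ id)⟩
    have hnotgen : ∀ (O : X.Opens), (∃ w, w ∈ O) → ∀ z ∈ (O : Set X)ᶜ, ¬ IsGen z := fun O ⟨w, hw⟩ z hz hg =>
      hz ((hg _ ((genericPoint_spec X).specializes trivial)) ▸
        ((genericPoint_spec X).mem_open_set_iff O.2).mpr ⟨w, trivial, hw⟩)
    let B : Set X := ((U : Set X)ᶜ ∪ (V : Set X)ᶜ) \ insert t₀ s
    have hBfin : B.Finite := ((FinPicLib.finite_of_closed hdim U.2.isClosed_compl (hnotgen U ⟨t₁, hsU ht₁⟩)).union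
      (FinPicLib.finite_of_closed hdim V.2.isClosed_compl (hnotgen V ⟨t₀, ht₀V⟩))).subset Set.diff_subset
    have hB : IsClosed B := by
      have : B = ⋃ t ∈ B, closure {t} := by
        refine Set.Subset.antisymm (fun z hz => Set.mem_iUnion₂.mpr ⟨z, hz, subset_closure rfl⟩) fun z hz => ?_
        obtain ⟨w, hw, hwz⟩ := Set.mem_iUnion₂.mp hz
        have hwG : ¬ IsGen w := hw.1.elim (hnotgen U ⟨t₁, hsU ht₁⟩ w) (hnotgen V ⟨t₀, ht₀V⟩ w)
        exact (FinPicLib.eq_of_specializes_of_not_isGen hdim hwG (specializes_iff_mem_closure.mpr hwz)) ▸ hw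
      rw [this]
      exact hBfin.isClosed_biUnion fun _ _ => isClosed_closure
    let W' : X.Opens := W ⊓ ⟨Bᶜ, hB.isOpen_compl⟩
    have hWW : W' ≤ W := inf_le_left
    refine AffContLib.exists_affine_of_separating hU hV (R := W') (X.presheaf.map (homOfLE hWW).op σ) ?_ ?_ _ hfin
      (fun t ht => ⟨hTW ht, fun hB' => hB'.2 ht⟩)
    · intro z hz
      rw [Scheme.basicOpen_res] at hz
      by_contra hzU
      have hzT : z ∈ insert t₀ s := by_contra fun h => hz.1.2 ⟨Or.inl hzU, h⟩
      rcases Set.mem_insert_iff.mp hzT with rfl | h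
      · exact hval i₀ σ g (hσ _ hzT (hTW hzT)) hg0 hz.2
      · exact hzU (hsU h)
    · intro z hz
      rw [← map_one (X.presheaf.map (homOfLE hWW).op).hom, ← map_sub, Scheme.basicOpen_res] at hz
      by_contra hzV
      have hzT : z ∈ insert t₀ s := by_contra fun h => hz.1.2 ⟨Or.inr hzV, h⟩
      refine hval ⟨z, hzT⟩ (1 - σ) (1 - g) ?_ (hg1 _ fun e => hzV (show z ∈ V from (show z = t₀ from congrArg Subtype.val e).symm ▸ ht₀V)) hz.2
      rw [map_sub, map_sub, map_one, map_one, hσ z hzT (hTW hzT)]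
      rfl

end Integral

end CurveAmpLib
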