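import Groth.Agent.SemiGlue.Basic
import Mathlib.RingTheory.Localization.Away.Basic
import Mathlib.RingTheory.Localization.Ideal
import Mathlib.RingTheory.Localization.FractionRing
import Mathlib.RingTheory.Ideal.MinimalPrime.Localization

/-!
# Elements with a pole along every branch through a point of a one-dimensional scheme
-/

set_option autoImplicit false
universe u v

namespace CurveAmpLib

/-- An element with a pole at finitely many discrete valuations, divisible by a given one. -/
theorem exists_pole {A : Type v} [CommRing A] {ι : Type*} [Finite ι] (K : ι → Type u) [∀ i, Field (K i)]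
    (ψ : ∀ i, A →+* K i) (V : ∀ i, ValuationSubring (K i)) [∀ i, IsNoetherianRing (V i)]
    (h : ∀ i, ∃ a, 1 < (V i).valuation (ψ i a)) (e : A) (he : ∀ i, ψ i e ≠ 0) :
    ∃ a, e ∣ a ∧ ∀ i, 1 < (V i).valuation (ψ i a) := by
  classical
  haveI := Fintype.ofFinite ι
  suffices H : ∀ s : Finset ι, ∃ a, ∀ i ∈ s, 1 < (V i).valuation (ψ i a) by
    obtain ⟨a, ha⟩ := H Finset.univ
    have hN : ∀ i, ∃ N : ℕ, ∀ n, N ≤ n → (V i).valuation (ψ i e)⁻¹ < (V i).valuation (ψ i a) ^ n :=
      fun i => SemiGlue.exists_pow_lt (V i) (ha i (Finset.mem_univ i))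
    choose N hN using hN
    refine ⟨e * a ^ Finset.univ.sup N, dvd_mul_right _ _, fun i => ?_⟩
    have h1 := hN i _ (Finset.le_sup (Finset.mem_univ i))
    have h0 : (V i).valuation (ψ i e) ≠ 0 := by simpa using he i
    rw [map_inv₀, inv_lt_iff_one_lt_mul₀ (zero_lt_iff.mpr h0)] at h1
    rw [map_mul, map_mul, map_pow, map_pow]
    simpa [mul_comm] using h1
  intro s
  induction s using Finset.induction with
  | empty => exact ⟨0, by simp⟩
  | insert i t hit ih =>
    obtain ⟨a, ha⟩ := ih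
    obtain ⟨b, hb⟩ := h i
    by_cases hai : 1 < (V i).valuation (ψ i a)
    · exact ⟨a, fun j hj => (Finset.mem_insert.mp hj).elim (fun e => e ▸ hai) (ha j)⟩
    have hN : ∀ j ∈ t, ∃ N : ℕ, ∀ n, N ≤ n → (V j).valuation (ψ j b) < (V j).valuation (ψ j a) ^ n :=
      fun j hj => SemiGlue.exists_pow_lt (V j) (ha j hj)
    choose! N hN using hN
    let n := t.sup N + 1
    refine ⟨a ^ n + b, fun j hj => ?_⟩
    rw [map_add, map_pow]
    rcases Finset.mem_insert.mp hj with rfl | hj
    · rw [Valuation.map_add_eq_of_lt_right _ (by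
        rw [map_pow]; exact (pow_le_one₀ zero_le (not_lt.mp hai)).trans_lt hb)]
      exact hb
    · have h1 := hN j hj n ((Finset.le_sup hj).trans (Nat.le_succ _))
      rw [Valuation.map_add_eq_of_lt_left _ (by rwa [map_pow]), map_pow]
      exact one_lt_pow₀ (ha j hj) (by omega)

section Inverse

variable {R : Type u} [CommRing R] {K : Type u} [CommRing K] [Algebra R K]

/-- The map to the residue field of a minimal prime. -/
noncomputable def toFrac (d : R) [IsLocalization.Away d K] (p : Ideal R) [p.IsPrime] (hp : d ∉ p) :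
    K →+* FractionRing (R ⧸ p) :=
  IsLocalization.Away.lift (S := K) d (g := (algebraMap (R ⧸ p) (FractionRing (R ⧸ p))).comp (Ideal.Quotient.mk p))
    (IsUnit.mk0 _ fun h => hp (Ideal.Quotient.eq_zero_iff_mem.mp
      ((IsFractionRing.injective (R ⧸ p) (FractionRing (R ⧸ p))) (h.trans (map_zero _).symm))))

theorem toFrac_algebraMap (d : R) [IsLocalization.Away d K] (p : Ideal R) [p.IsPrime] (hp : d ∉ p) (r : R) :
    toFrac (K := K) d p hp (algebraMap R K r) = algebraMap (R ⧸ p) (FractionRing (R ⧸ p)) (Ideal.Quotient.mk p r) :=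
  IsLocalization.Away.lift_eq d _ r

/-- The image of the domain in its fraction field. -/
def img (p : Ideal R) [p.IsPrime] : Subring (FractionRing (R ⧸ p)) :=
  (algebraMap (R ⧸ p) (FractionRing (R ⧸ p))).range

theorem good_img [IsNoetherianRing R] [IsLocalRing R] [Ring.KrullDimLE 1 R] {d : R}
    (hd : d ∈ IsLocalRing.maximalIdeal R) (p : Ideal R) [p.IsPrime] (hp : d ∉ p) : SemiGlue.Good (img p) := by
  let e : (R ⧸ p) ≃+* img p := RingEquiv.ofBijective (algebraMap (R ⧸ p) (FractionRing (R ⧸ p))).rangeRestrict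
    ⟨fun a b h => IsFractionRing.injective (R ⧸ p) (FractionRing (R ⧸ p)) (congrArg Subtype.val h),
      RingHom.rangeRestrict_surjective _⟩
  haveI : Nontrivial (R ⧸ p) := inferInstance
  have hdim : ringKrullDim (R ⧸ p) = 1 := by
    refine le_antisymm ((ringKrullDim_quotient_le p).trans (Ring.krullDimLE_iff.mp inferInstance)) ?_
    by_contra hlt
    have h0 : Ring.KrullDimLE 0 (R ⧸ p) := by
      rw [Ring.krullDimLE_iff]
      exact Order.le_of_lt_succ (not_le.mp hlt)
    haveI := h0
    have : (⊥ : Ideal (R ⧸ p)).IsMaximal := Ideal.isMaximal_of_isPrime _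
    have hm : p.IsMaximal := Ideal.Quotient.maximal_of_isField p
      (Ring.isField_iff_isSimpleOrder_ideal.mpr (isSimpleOrder_iff_isCoatom_bot.mpr this.out))
    exact hp (IsLocalRing.eq_maximalIdeal hm ▸ hd)
  refine ⟨?_, isNoetherianRing_of_ringEquiv _ e, (ringKrullDim_eq_of_ringEquiv e).symm.trans hdim, ?_⟩
  · refine IsFractionRing.of_field (img p) _ fun z => ?_
    obtain ⟨a, b, -, rfl⟩ := IsFractionRing.div_surjective (R ⧸ p) z
    exact ⟨e a, e b, rfl⟩
  · haveI : IsLocalRing (R ⧸ p) := IsLocalRing.of_surjective' (Ideal.Quotient.mk p) Ideal.Quotient.mk_surjective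
    haveI : IsLocalRing (img p) := RingEquiv.isLocalRing e
    infer_instance

/-- A root of a monic polynomial congruent to a power of `X` has powers in the maximal ideal. -/
theorem exists_pow_eq [IsLocalRing R] {d : R} (hd : d ∈ IsLocalRing.maximalIdeal R) [IsLocalization.Away d K]
    {j : ℕ} (hj : IsLocalRing.maximalIdeal R ^ j ≤ Ideal.span {d}) {c : K} (hint : IsIntegral R c) {n₀ : ℕ}
    {P₀ : Polynomial R} (hmonic : P₀.Monic) (heval : Polynomial.aeval (c ^ n₀) P₀ = 0)
    (hlow : ∀ i, i < P₀.natDegree → P₀.coeff i ∈ IsLocalRing.maximalIdeal R) :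
    ∃ N : ℕ, ∀ n, N ≤ n → ∃ r ∈ IsLocalRing.maximalIdeal R, c ^ n = algebraMap R K r := by
  obtain ⟨M, hcM, hmul, hclear⟩ : ∃ M : Submodule R K, (∀ i, c ^ i ∈ M) ∧ (∀ z ∈ M, ∀ i, c ^ i * z ∈ M) ∧
      ∃ l : ℕ, ∀ z ∈ M, ∃ w : R, algebraMap R K w = algebraMap R K d ^ l * z := by
    obtain ⟨t, ht⟩ := hint.fg_adjoin_singleton
    obtain ⟨b, hl⟩ := IsLocalization.exist_integer_multiples_of_finset (S := K) (Submonoid.powers d) t
    obtain ⟨l, hbl⟩ := (Submonoid.mem_powers_iff _ _).mp b.2
    have hcA : c ∈ Algebra.adjoin R ({c} : Set K) := Algebra.subset_adjoin (Set.mem_singleton c)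
    refine ⟨Subalgebra.toSubmodule (Algebra.adjoin R ({c} : Set K)),
      fun i => (Algebra.adjoin R ({c} : Set K)).pow_mem hcA i,
      fun z hz i => (Algebra.adjoin R ({c} : Set K)).mul_mem ((Algebra.adjoin R ({c} : Set K)).pow_mem hcA i) hz, l, fun z hz => ?_⟩
    have hz' : z ∈ Submodule.span R (t : Set K) := ht ▸ hz
    clear hz
    induction hz' using Submodule.span_induction with
    | mem x hx =>
      obtain ⟨w, hw⟩ := hl x hx
      exact ⟨w, by rw [hw, Algebra.smul_def, ← hbl, map_pow]⟩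
    | zero => exact ⟨0, by simp⟩
    | add x y hx hy h1 h2 =>
      obtain ⟨w, hw⟩ := h1; obtain ⟨w', hw'⟩ := h2
      exact ⟨w + w', by rw [map_add, hw, hw', mul_add]⟩
    | smul s x hx h1 =>
      obtain ⟨w, hw⟩ := h1
      exact ⟨s * w, by rw [map_mul, hw, Algebra.smul_def]; ring⟩
  obtain ⟨l, hclear⟩ := hclear
  let D := P₀.natDegree
  let m := IsLocalRing.maximalIdeal R
  let f : K := c ^ n₀
  have hstep : ∀ z ∈ M, f ^ D * z ∈ m • M := by
    intro z hz
    have e := heval
    rw [Polynomial.aeval_eq_sum_range, Finset.sum_range_succ, hmonic.coeff_natDegree, one_smul] at e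
    rw [eq_neg_of_add_eq_zero_right e, neg_mul, Finset.sum_mul]
    refine Submodule.neg_mem _ (Submodule.sum_mem _ fun i hi => ?_)
    rw [smul_mul_assoc]
    refine Submodule.smul_mem_smul (hlow i (Finset.mem_range.mp hi)) ?_
    rw [← pow_mul]; exact hmul z hz _
  have hiter : ∀ j, ∀ z ∈ M, (f ^ D) ^ j * z ∈ m ^ j • M := by
    intro j
    induction j with
    | zero => intro z hz; simpa using hz
    | succ j ih =>
      intro z hz
      rw [pow_succ' (f ^ D), mul_assoc, pow_succ m j]
      have := ih z hz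
      generalize (f ^ D) ^ j * z = w at this
      refine Submodule.smul_induction_on this (fun s hs y hy => ?_) fun x y hx hy => ?_
      · rw [mul_smul_comm, Submodule.mul_smul]
        exact Submodule.smul_mem_smul hs (hstep y hy)
      · rw [mul_add]; exact Submodule.add_mem _ hx hy
  have hdiv : ∀ z ∈ M, ∃ y ∈ M, (f ^ D) ^ j * z = algebraMap R K d * y := by
    intro z hz
    have hmem : (f ^ D) ^ j * z ∈ Ideal.span {d} • M := Submodule.smul_mono hj (le_refl M) (hiter j z hz)
    refine Submodule.smul_induction_on hmem (fun r hr y hy => ?_) fun x x' hx hx' => ?_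
    · obtain ⟨q, rfl⟩ := Ideal.mem_span_singleton'.mp hr
      exact ⟨q • y, M.smul_mem q hy, by simp only [Algebra.smul_def, map_mul]; ring⟩
    · obtain ⟨y, hy, e⟩ := hx
      obtain ⟨y', hy', e'⟩ := hx'
      exact ⟨y + y', M.add_mem hy hy', by rw [e, e', mul_add]⟩
  have hpow : ∀ l, ∀ z ∈ M, ∃ y ∈ M, ((f ^ D) ^ j) ^ l * z = algebraMap R K d ^ l * y := by
    intro l
    induction l with
    | zero => intro z hz; exact ⟨z, hz, by simp⟩
    | succ l ih =>
      intro z hz
      obtain ⟨y, hy, e⟩ := hdiv z hz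
      obtain ⟨y', hy', e'⟩ := ih y hy
      exact ⟨y', hy', by rw [pow_succ, mul_assoc, e, mul_left_comm, e', pow_succ]; ring⟩
  refine ⟨n₀ * D * j * (l + 1), fun n hn => ?_⟩
  obtain ⟨y, hy, e⟩ := hpow (l + 1) (c ^ (n - n₀ * D * j * (l + 1))) (hcM _)
  obtain ⟨w, hw⟩ := hclear y hy
  refine ⟨d * w, Ideal.mul_mem_right _ _ hd, ?_⟩
  rw [map_mul, hw, ← mul_assoc, ← pow_succ', ← e, ← pow_mul, ← pow_mul, ← pow_mul, ← pow_add]
  congr 1
  rw [show n₀ * (D * (j * (l + 1))) = n₀ * D * j * (l + 1) by ring]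
  omega

/-- If `a` has a pole along every branch, a large power has inverse in the maximal ideal. -/
theorem exists_inv_pow_mem [IsNoetherianRing R] [IsLocalRing R] [Ring.KrullDimLE 1 R] {d : R}
    (hd : d ∈ IsLocalRing.maximalIdeal R) (hmin : ∀ p ∈ minimalPrimes R, d ∉ p) [IsLocalization.Away d K] (a : K)
    (h : ∀ (p : Ideal R) [p.IsPrime], p ∈ minimalPrimes R → ∀ (hp : d ∉ p) (V : ValuationSubring (FractionRing (R ⧸ p))),
      img p ≤ V.toSubring → V ≠ ⊤ → 1 < V.valuation (toFrac d p hp a)) :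
    ∃ N : ℕ, ∀ n, N ≤ n → ∃ r ∈ IsLocalRing.maximalIdeal R, algebraMap R K r * a ^ n = 1 := by
  classical
  haveI : Finite (minimalPrimes R) := (minimalPrimes.finite_of_isNoetherianRing R).to_subtype
  haveI := Fintype.ofFinite (minimalPrimes R)
  haveI hp : ∀ p : minimalPrimes R, p.1.IsPrime := fun p => p.2.1.1
  have hdp : ∀ p : minimalPrimes R, d ∉ p.1 := fun p => hmin p.1 p.2
  let ψ := fun p : minimalPrimes R => toFrac (K := K) d p.1 (hdp p)
  have hker : ∀ (P : Ideal K), P.IsPrime → ∃ p : minimalPrimes R, ∀ z, ψ p z = 0 → z ∈ P := by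
    intro P hP
    haveI := hP
    obtain ⟨h1, h2⟩ := (IsLocalization.isPrime_iff_isPrime_disjoint (Submonoid.powers d) K P).mp hP
    let P' := P.comap (algebraMap R K)
    haveI : P'.IsPrime := h1
    have hdP : d ∉ P' := fun hh => Set.disjoint_left.mp h2 (Submonoid.mem_powers d) hh
    have hPmin : P' ∈ minimalPrimes R := (Ring.krullDimLE_one_iff.mp inferInstance P' h1).resolve_right
      fun hm => hdP (IsLocalRing.eq_maximalIdeal hm ▸ hd)
    refine ⟨⟨P', hPmin⟩, fun z hz => ?_⟩
    obtain ⟨⟨r, s⟩, hs⟩ := IsLocalization.surj (Submonoid.powers d) z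
    have h3 := congrArg (ψ ⟨P', hPmin⟩) hs
    rw [map_mul, hz, zero_mul, toFrac_algebraMap] at h3
    have h4 : r ∈ P' := Ideal.Quotient.eq_zero_iff_mem.mp
      (IsFractionRing.injective (R ⧸ P') (FractionRing (R ⧸ P')) (h3.symm.trans (map_zero _).symm))
    have h5 : z * algebraMap R K s ∈ P := hs ▸ h4
    exact ((hP.mem_or_mem h5).resolve_right fun hh => Set.disjoint_left.mp h2 s.2 hh)
  have hau : IsUnit a := by
    by_contra hu
    obtain ⟨P, hP, haP⟩ := exists_max_ideal_of_mem_nonunits hu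
    obtain ⟨h1, h2⟩ := (IsLocalization.isPrime_iff_isPrime_disjoint (Submonoid.powers d) K P).mp hP.isPrime
    let P' := P.comap (algebraMap R K)
    haveI : P'.IsPrime := h1
    have hdP : d ∉ P' := fun hh => Set.disjoint_left.mp h2 (Submonoid.mem_powers d) hh
    have hPmin : P' ∈ minimalPrimes R := (Ring.krullDimLE_one_iff.mp inferInstance P' h1).resolve_right
      fun hm => hdP (IsLocalRing.eq_maximalIdeal hm ▸ hd)
    have hG := good_img hd P' hdP
    haveI := hG.fin
    obtain ⟨j, hj0, -⟩ := hG.exists_jac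
    obtain ⟨m, hm⟩ := Ideal.exists_maximal (img P')
    obtain ⟨V, hV, hmV⟩ := Ideal.image_subset_nonunits_valuationSubring (A := img P') m hm.ne_top
    have hm0 : m ≠ ⊥ := fun hb => hG.not_isField
      (Ring.isField_iff_isSimpleOrder_ideal.mpr (isSimpleOrder_iff_isCoatom_bot.mpr (hb ▸ hm.out)))
    have hVtop : V ≠ ⊤ := by
      obtain ⟨w, hw, hw0⟩ := Submodule.exists_mem_ne_zero_of_ne_bot hm0
      intro hV'
      have : (w : FractionRing (R ⧸ P')) ∈ V.nonunits := hmV ⟨w, hw, rfl⟩
      rw [ValuationSubring.mem_nonunits_iff_or] at this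
      rcases this with h' | h'
      · exact hw0 (Subtype.ext h')
      · exact h' (hV' ▸ ValuationSubring.mem_top _)
    have h3 := h P' hPmin hdP V hV hVtop
    obtain ⟨⟨r, s⟩, hs⟩ := IsLocalization.surj (Submonoid.powers d) a
    have hr : r ∈ P' := by
      show algebraMap R K r ∈ P
      rw [← hs]
      exact Ideal.mul_mem_right _ _ haP
    have h4 := congrArg (toFrac (K := K) d P' hdP) hs
    rw [map_mul, toFrac_algebraMap, toFrac_algebraMap, Ideal.Quotient.eq_zero_iff_mem.mpr hr, map_zero] at h4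
    rcases mul_eq_zero.mp h4 with h5 | h5
    · rw [h5, map_zero] at h3
      exact absurd h3 (not_lt.mpr zero_le)
    · obtain ⟨k, hk⟩ := s.2
      have : (s : R) ∈ P' := Ideal.Quotient.eq_zero_iff_mem.mp
        (IsFractionRing.injective (R ⧸ P') (FractionRing (R ⧸ P')) (h5.trans (map_zero _).symm))
      exact hdP (h1.mem_of_pow_mem k (by rw [show d ^ k = (s : R) from hk]; exact this))
  obtain ⟨c, hc⟩ := isUnit_iff_exists_inv.mp hau
  -- reduction along each minimal prime
  have hred : ∀ p : minimalPrimes R, ∃ N : ℕ, ∀ n, N ≤ n → ∃ r ∈ IsLocalRing.maximalIdeal R,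
      ψ p (c ^ n - algebraMap R K r) = 0 := by
    intro p
    have hG := good_img hd p.1 (hdp p)
    obtain ⟨N, hN⟩ := hG.exists_pow_jac (a := ψ p c) fun V hV hVt => by
      have h1 := h p.1 p.2 (hdp p) V hV hVt
      have h2 : V.valuation (ψ p a) * V.valuation (ψ p c) = 1 := by rw [← map_mul, ← map_mul, hc, map_one, map_one]
      by_contra hle
      exact absurd h2 (ne_of_gt (one_lt_mul_of_lt_of_le h1 (not_lt.mp hle)))
    refine ⟨N, fun n hn => ?_⟩
    obtain ⟨hmem, hjac⟩ := hN n hn
    obtain ⟨q, hq⟩ := RingHom.mem_range.mp hmem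
    obtain ⟨r, rfl⟩ := Ideal.Quotient.mk_surjective q
    refine ⟨r, ?_, ?_⟩
    · by_contra hr
      have hu : IsUnit r := of_not_not fun hn => hr ((IsLocalRing.mem_maximalIdeal r).mpr hn)
      obtain ⟨m, hm⟩ := Ideal.exists_maximal (img p.1)
      refine hm.ne_top (Ideal.eq_top_of_isUnit_mem m (hjac m hm) ?_)
      have : (⟨ψ p c ^ n, hmem⟩ : img p.1) =
          (algebraMap (R ⧸ p.1) (FractionRing (R ⧸ p.1))).rangeRestrict (Ideal.Quotient.mk p.1 r) := Subtype.ext hq.symm
      rw [this]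
      exact (hu.map _).map _
    · rw [map_sub, map_pow, sub_eq_zero, toFrac_algebraMap]
      exact hq.symm
  choose N hN using hred
  let n₀ := Finset.univ.sup N + 1
  choose r hr hr0 using fun p => hN p n₀ ((Finset.le_sup (Finset.mem_univ p)).trans (Nat.le_succ _))
  let f : K := c ^ n₀
  obtain ⟨k, hk⟩ : IsNilpotent (∏ p, (f - algebraMap R K (r p))) := by
    rw [← mem_nilradical, nilradical_eq_sInf, Ideal.mem_sInf]
    intro P hP
    obtain ⟨p, hp⟩ := hker P hP
    exact Ideal.mem_of_dvd _ (Finset.dvd_prod_of_mem _ (Finset.mem_univ p)) (hp _ (hr0 p))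
  let P₀ : Polynomial R := (∏ p, (Polynomial.X - Polynomial.C (r p))) ^ k
  have hmonic : P₀.Monic := (Polynomial.monic_prod_of_monic _ _ fun p _ => Polynomial.monic_X_sub_C _).pow k
  have heval : Polynomial.aeval f P₀ = 0 := by
    rw [map_pow, map_prod]
    simpa using hk
  have hint : IsIntegral R c := IsIntegral.of_pow (n := n₀) (by omega) ⟨P₀, hmonic, heval⟩
  let m := IsLocalRing.maximalIdeal R
  let D := P₀.natDegree
  have hlow : ∀ i, i < D → P₀.coeff i ∈ m := by
    intro i hi
    rw [← Ideal.Quotient.eq_zero_iff_mem, ← Polynomial.coeff_map]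
    have e : P₀.map (Ideal.Quotient.mk m) = Polynomial.X ^ D := by
      have e1 : P₀.map (Ideal.Quotient.mk m) = Polynomial.X ^ (Fintype.card (minimalPrimes R) * k) := by
        rw [Polynomial.map_pow, Polynomial.map_prod, pow_mul]
        congr 1
        rw [Finset.prod_congr rfl fun p _ => (show (Polynomial.X - Polynomial.C (r p)).map (Ideal.Quotient.mk m) = Polynomial.X by
          rw [Polynomial.map_sub, Polynomial.map_X, Polynomial.map_C, Ideal.Quotient.eq_zero_iff_mem.mpr (hr p), map_zero, sub_zero]),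
          Finset.prod_const, Finset.card_univ]
      rw [e1]
      congr 1
      have h3 := hmonic.natDegree_map (Ideal.Quotient.mk m)
      rw [e1, Polynomial.natDegree_X_pow] at h3
      exact h3
    rw [e, Polynomial.coeff_X_pow, if_neg (by omega)]
  obtain ⟨j, hj⟩ : ∃ j, m ^ j ≤ Ideal.span {d} := by
    refine Ideal.exists_pow_le_of_le_radical_of_fg ?_ (IsNoetherian.noetherian m)
    rw [Ideal.radical_eq_sInf]
    refine le_sInf fun P ⟨hle, hP⟩ => ?_
    rcases Ring.krullDimLE_one_iff.mp inferInstance P hP with hPm | hPm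
    · exact absurd (hle (Ideal.subset_span rfl)) (hmin P hPm)
    · exact (IsLocalRing.eq_maximalIdeal hPm).ge
  obtain ⟨N', hN'⟩ := exists_pow_eq hd hj hint hmonic heval hlow
  refine ⟨N', fun n hn => ?_⟩
  obtain ⟨r', hr', e⟩ := hN' n hn
  exact ⟨r', hr', by rw [← e, ← mul_pow, mul_comm, hc, one_pow]⟩

end Inverse

end CurveAmpLib
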