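import Groth.Agent.CurveAmpLib.FiniteSet
import Groth.Agent.CurveAmpLib.Pole
import Groth.Agent.DiscExtLib.Glue
import Groth.Agent.UFDExtLib.Densify
import Groth.Agent.AmpleThLib.Ample
import Groth.Agent.AffContLib.Basic

/-!
# Separated Noetherian schemes of dimension at most one have ample invertible modules
-/

set_option autoImplicit false
universe u

open CategoryTheory CategoryTheory.Limits AlgebraicGeometry TopologicalSpace Opposite
open AmpleLib (res GenAt GenOn)
open TwistLib (genSet)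
open FinPicLib (IsGen)

noncomputable section

namespace CurveAmpLib

variable {X : Scheme.{u}}

theorem isAffineOpen_inf_genSet {L : X.Modules} (hL : PicF.IsInvertible L) (σ : Γ(L, ⊤)) {U : X.Opens}
    (hU : IsAffineOpen U) : IsAffineOpen (U ⊓ genSet hL σ) := by
  haveI : IsAffineHom (genSet hL σ).ι := by
    refine isAffineHom_of_forall_exists_isAffineOpen _ fun x => ?_
    obtain ⟨O, e, hxO, he⟩ := TwistLib.exists_genOn hL x
    obtain ⟨V, hV, hxV, hVO⟩ := exists_isAffineOpen_mem_and_subset hxO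
    refine ⟨V, hxV, hV, ?_⟩
    have he' : GenOn L (res L hVO e) := he.res hVO
    obtain ⟨r, hr⟩ := AmpleThLib.exists_coeff σ he'
    have h := AmpleThLib.mem_genSet_coeff hL σ he' hr
    refine (Scheme.Hom.isAffineOpen_iff_of_isOpenImmersion (genSet hL σ).ι).mp ?_
    rw [Scheme.Hom.image_preimage_eq_opensRange_inf, Scheme.Opens.opensRange_ι, h]
    exact hV.basicOpen r
  have h1 := (Scheme.Hom.isAffineOpen_iff_of_isOpenImmersion (genSet hL σ).ι).mpr (hU.preimage (genSet hL σ).ι)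
  rwa [Scheme.Hom.image_preimage_eq_opensRange_inf, Scheme.Opens.opensRange_ι, inf_comm] at h1

theorem isClosed_of_finite [NoetherianSpace X] (hdim : topologicalKrullDim X ≤ 1) {S : Set X} (hS : S.Finite)
    (hG : ∀ t ∈ S, ¬ IsGen t) : IsClosed S := by
  have : S = ⋃ t ∈ S, closure {t} := by
    refine Set.Subset.antisymm (fun z hz => Set.mem_iUnion₂.mpr ⟨z, hz, subset_closure rfl⟩) fun z hz => ?_
    obtain ⟨w, hw, hwz⟩ := Set.mem_iUnion₂.mp hz
    exact (FinPicLib.eq_of_specializes_of_not_isGen hdim (hG w hw) (specializes_iff_mem_closure.mpr hwz)) ▸ hw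
  rw [this]
  exact hS.isClosed_biUnion fun _ _ => isClosed_closure

/-- An element regular away from finitely many points with deep poles at all of them. -/
theorem exists_deep_pole [IsNoetherian X] [X.IsSeparated] (hdim : topologicalKrullDim X ≤ 1)
    (U V : X.affineOpens) (d : Γ(X, V.1)) (hd : X.basicOpen d ≤ U.1)
    (hgen : ∀ η : X, IsGen η → η ∈ X.basicOpen d) (e : Γ(X, U.1)) (he : ∀ η : X, IsGen η → η ∈ X.basicOpen e) :
    ∃ a : Γ(X, U.1), X.basicOpen a ≤ X.basicOpen e ∧ ∀ x ∈ V.1, x ∉ U.1 →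
      ∃ (O : X.Opens) (b : Γ(X, O)) (hO : O ≤ V.1), x ∈ O ∧ x ∉ X.basicOpen b ∧
        ∀ (W : X.Opens) (h₁ : W ≤ O) (h₂ : W ≤ X.basicOpen d),
          X.presheaf.map (homOfLE h₁).op b * X.presheaf.map (homOfLE (h₂.trans hd)).op a = 1 := by
  classical
  let D : Set X := (V.1 : Set X) ∩ (U.1 : Set X)ᶜ
  have hDd : ∀ x ∈ D, x ∉ X.basicOpen d := fun x hx h => hx.2 (hd h)
  have hDG : ∀ x ∈ D, ¬ IsGen x := fun x hx h => hDd x hx (hgen x h)
  have hDfin : D.Finite := (FinPicLib.finite_of_closed hdim U.1.2.isClosed_compl fun x hx h => hx (hd (hgen x h))).subset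
    Set.inter_subset_right
  haveI : Finite D := hDfin.to_subtype
  haveI hk : ∀ x : D, Ring.KrullDimLE 1 (X.presheaf.stalk x.1) := fun x => krullDimLE_stalk hdim x.1
  let dx : ∀ x : D, X.presheaf.stalk x.1 := fun x => X.presheaf.germ V.1 x.1 x.2.1 d
  have hdm : ∀ x : D, dx x ∈ IsLocalRing.maximalIdeal (X.presheaf.stalk x.1) := fun x =>
    (IsLocalRing.mem_maximalIdeal _).mpr fun hu => hDd x x.2 ((X.mem_basicOpen d x.1 x.2.1).mpr hu)
  -- primes of the local rings and the corresponding points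
  have hpt : ∀ (x : D) (p : Ideal (X.presheaf.stalk x.1)) [p.IsPrime],
      UFDExtLib.pt V (p.comap (X.presheaf.germ V.1 x.1 x.2.1).hom) ⤳ x.1 ∧
      ∀ r : Γ(X, V.1), (UFDExtLib.pt V (p.comap (X.presheaf.germ V.1 x.1 x.2.1).hom) ∈ X.basicOpen r ↔
        X.presheaf.germ V.1 x.1 x.2.1 r ∉ p) := by
    intro x p _
    have hm := UFDExtLib.pt_mem V (p.comap (X.presheaf.germ V.1 x.1 x.2.1).hom)
    refine ⟨UFDExtLib.specializes_of_le V hm x.2.1 ?_, fun r => ?_⟩
    · rw [UFDExtLib.prm_pt]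
      intro r hr
      rw [SDivLib.mem_prm_iff]
      exact fun hu => Ideal.IsPrime.ne_top ‹_› (Ideal.eq_top_of_isUnit_mem p hr hu)
    · have h1 := SDivLib.mem_prm_iff V hm r
      rw [UFDExtLib.prm_pt, Ideal.mem_comap] at h1
      rw [X.mem_basicOpen r _ hm]
      exact ⟨fun hu hr => h1.mp hr hu, fun hr => not_not.mp fun hu => hr (h1.mpr hu)⟩
  have hmin : ∀ (x : D), ∀ p ∈ minimalPrimes (X.presheaf.stalk x.1), dx x ∉ p := by
    intro x p hp hdp
    haveI : p.IsPrime := hp.1.1
    obtain ⟨hηx, hiff⟩ := hpt x p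
    rcases eq_or_ne (UFDExtLib.pt V (p.comap (X.presheaf.germ V.1 x.1 x.2.1).hom)) x.1 with he' | hne
    · -- the point is generic
      refine hDG x x.2 fun z hz => ?_
      obtain ⟨q, hq⟩ : z ∈ Set.range (X.fromSpecStalk x.1) := by rw [X.range_fromSpecStalk]; exact hz
      have hm : p = IsLocalRing.maximalIdeal (X.presheaf.stalk x.1) := by
        refine le_antisymm (IsLocalRing.le_maximalIdeal (Ideal.IsPrime.ne_top ‹_›)) fun r hr => ?_
        obtain ⟨s, hs⟩ : ∃ rs : Γ(X, V.1) × (SDivLib.prm V x.2.1).primeCompl,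
            r * X.presheaf.germ V.1 x.1 x.2.1 rs.2.1 = X.presheaf.germ V.1 x.1 x.2.1 rs.1 := by
          letI := X.presheaf.algebra_section_stalk (⟨x.1, x.2.1⟩ : V.1)
          haveI := SDivLib.prm_isPrime V x.2.1
          haveI : IsLocalization.AtPrime (X.presheaf.stalk x.1) (SDivLib.prm V x.2.1) := V.2.isLocalization_stalk ⟨x.1, x.2.1⟩
          exact IsLocalization.surj (SDivLib.prm V x.2.1).primeCompl r
        have hs1 : X.presheaf.germ V.1 x.1 x.2.1 s.1 ∈ p := by
          by_contra hnot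
          have h2 := (hiff s.1).mpr hnot
          rw [he', X.mem_basicOpen s.1 x.1 x.2.1, ← hs] at h2
          exact (IsLocalRing.mem_maximalIdeal _).mp (Ideal.mul_mem_right _ _ hr) h2
        rw [← hs] at hs1
        refine (Ideal.IsPrime.mem_or_mem ‹_› hs1).resolve_right fun h3 => ?_
        exact s.2.2 ((SDivLib.mem_prm_iff V x.2.1 _).mpr fun hu =>
          Ideal.IsPrime.ne_top ‹_› (Ideal.eq_top_of_isUnit_mem p h3 hu))
      have hq' : q = IsLocalRing.closedPoint (X.presheaf.stalk x.1) := PrimeSpectrum.ext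
        (le_antisymm (IsLocalRing.le_maximalIdeal q.2.ne_top) ((hm ▸ hp).2 ⟨q.2, bot_le⟩ (IsLocalRing.le_maximalIdeal q.2.ne_top)))
      rw [← hq, hq', X.fromSpecStalk_closedPoint]
    · exact (hiff d).mp (hgen _ (FinPicLib.isGen_of_specializes hdim hηx hne)) hdp
  -- the comparison with the functions on the punctured chart
  let K : D → Type u := fun x => Localization.Away (dx x)
  have hex : ∀ x : D, ∃ ρ : Γ(X, X.basicOpen d) →+* Localization.Away (dx x),
      ∀ r, ρ (X.presheaf.map (homOfLE (X.basicOpen_le d)).op r) =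
        algebraMap _ _ (X.presheaf.germ V.1 x.1 x.2.1 r) := fun x => by
    haveI := V.2.isLocalization_basicOpen d
    exact ⟨IsLocalization.Away.lift d (g := (algebraMap (X.presheaf.stalk x.1) (Localization.Away (dx x))).comp
        (X.presheaf.germ V.1 x.1 x.2.1).hom) (IsLocalization.Away.algebraMap_isUnit (dx x)),
      fun r => IsLocalization.Away.lift_eq d _ r⟩
  choose ρ hρ using hex
  let θ : ∀ x : D, Γ(X, U.1) →+* Localization.Away (dx x) := fun x =>
    (ρ x).comp (X.presheaf.map (homOfLE hd).op).hom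
  let P : D → Type u := fun x => {p : Ideal (X.presheaf.stalk x.1) // p ∈ minimalPrimes _}
  haveI hPfin : ∀ x, Finite (P x) := fun x => (minimalPrimes.finite_of_isNoetherianRing _).to_subtype
  haveI hPp : ∀ (x : D) (p : P x), p.1.IsPrime := fun x p => p.2.1.1
  let ψ : ∀ (x : D) (p : P x), Γ(X, U.1) →+* FractionRing (X.presheaf.stalk x.1 ⧸ p.1) := fun x p =>
    (toFrac (K := Localization.Away (dx x)) (dx x) p.1 (hmin x p.1 p.2)).comp (θ x)
  let Val : ∀ (x : D) (p : P x), Type u := fun x p =>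
    {O : ValuationSubring (FractionRing (X.presheaf.stalk x.1 ⧸ p.1)) // img p.1 ≤ O.toSubring ∧ O ≠ ⊤}
  have hG := fun (x : D) (p : P x) => good_img (hdm x) p.1 (hmin x p.1 p.2)
  haveI : ∀ x p, Finite (Val x p) := fun x p => (hG x p).finite_valuations.to_subtype
  let ι := Σ x : D, Σ p : P x, Val x p
  haveI : ∀ i : ι, IsNoetherianRing i.2.2.1 := fun i => (hG i.1 i.2.1).noeth_valuation i.2.2.1 i.2.2.2.1
  have hpole : ∀ i : ι, ∃ a, 1 < i.2.2.1.valuation (ψ i.1 i.2.1 a) := by
    rintro ⟨x, p, O, hO, hOt⟩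
    by_contra hcon
    push Not at hcon
    let φ₁ : Γ(X, U.1) →+* O := (ψ x p).codRestrict O.toSubring fun a => (O.valuation_le_one_iff _).mp (hcon a)
    let f₀ : X.presheaf.stalk x.1 →+* O :=
      (((algebraMap _ (FractionRing (X.presheaf.stalk x.1 ⧸ p.1))).comp (Ideal.Quotient.mk p.1))).codRestrict O.toSubring
        fun r => hO ⟨Ideal.Quotient.mk p.1 r, rfl⟩
    have hf₀ : (IsLocalRing.maximalIdeal O).comap f₀ = IsLocalRing.maximalIdeal (X.presheaf.stalk x.1) := by
      haveI hq : ((IsLocalRing.maximalIdeal O).comap f₀).IsPrime := Ideal.IsPrime.comap _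
      refine IsLocalRing.eq_maximalIdeal
        ((Ring.krullDimLE_one_iff.mp inferInstance _ hq).resolve_left fun hqm => ?_)
      obtain ⟨b, hb0, hbm⟩ := exists_mem_maximalIdeal (hG x p).frac O hO hOt
      obtain ⟨q, hq'⟩ := RingHom.mem_range.mp b.2
      obtain ⟨r, rfl⟩ := Ideal.Quotient.mk_surjective q
      have hr : r ∈ (IsLocalRing.maximalIdeal O).comap f₀ := by
        rw [Ideal.mem_comap]
        convert hbm using 1
        exact Subtype.ext hq'
      have hple : p.1 ≤ (IsLocalRing.maximalIdeal O).comap f₀ := fun z hz => by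
        rw [Ideal.mem_comap]
        convert Submodule.zero_mem (IsLocalRing.maximalIdeal O)
        exact Subtype.ext (by simp [f₀, Ideal.Quotient.eq_zero_iff_mem.mpr hz])
      have hrp : r ∈ p.1 := hqm.2 ⟨hPp x p, bot_le⟩ hple hr
      refine hb0 (Subtype.ext ?_)
      rw [← hq', Ideal.Quotient.eq_zero_iff_mem.mpr hrp, map_zero]
      rfl
    let φ₂ : Γ(X, V.1) →+* O := f₀.comp (X.presheaf.germ V.1 x.1 x.2.1).hom
    have key := centre_eq O U V ⟨X.basicOpen d, V.2.basicOpen d⟩ hd (X.basicOpen_le d) φ₁ φ₂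
      ((toFrac (K := Localization.Away (dx x)) (dx x) p.1 (hmin x p.1 p.2)).comp (ρ x))
      (fun a => rfl) (fun a => by
        show _ = toFrac (K := Localization.Away (dx x)) (dx x) p.1 (hmin x p.1 p.2) (ρ x _)
        rw [hρ x a, toFrac_algebraMap]
        rfl)
    have hx : UFDExtLib.pt V ((IsLocalRing.maximalIdeal O).comap φ₂) = x.1 := by
      refine UFDExtLib.eq_of_prm_eq V (UFDExtLib.pt_mem V _) x.2.1 ((UFDExtLib.prm_pt V _).trans ?_)
      ext r
      show f₀ (X.presheaf.germ V.1 x.1 x.2.1 r) ∈ IsLocalRing.maximalIdeal O ↔ r ∈ SDivLib.prm V x.2.1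
      rw [SDivLib.mem_prm_iff, ← Ideal.mem_comap, hf₀, IsLocalRing.mem_maximalIdeal, mem_nonunits_iff]
    exact x.2.2 (hx ▸ key ▸ UFDExtLib.pt_mem U _)
  have hψe : ∀ i : ι, ψ i.1 i.2.1 e ≠ 0 := by
    intro i h0
    obtain ⟨x, p, O⟩ := i
    obtain ⟨⟨r, s⟩, hrs⟩ : ∃ rs : Γ(X, V.1) × Submonoid.powers d,
        X.presheaf.map (homOfLE hd).op e * X.presheaf.map (homOfLE (X.basicOpen_le d)).op rs.2.1 =
          X.presheaf.map (homOfLE (X.basicOpen_le d)).op rs.1 := by
      haveI := V.2.isLocalization_basicOpen d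
      exact IsLocalization.surj (Submonoid.powers d) (X.presheaf.map (homOfLE hd).op e)
    have h1 := congrArg (fun z => toFrac (K := Localization.Away (dx x)) (dx x) p.1 (hmin x p.1 p.2) (ρ x z)) hrs
    simp only [map_mul, hρ, toFrac_algebraMap] at h1
    rw [show toFrac (K := Localization.Away (dx x)) (dx x) p.1 (hmin x p.1 p.2)
      (ρ x (X.presheaf.map (homOfLE hd).op e)) = 0 from h0, zero_mul] at h1
    have hr : X.presheaf.germ V.1 x.1 x.2.1 r ∈ p.1 := Ideal.Quotient.eq_zero_iff_mem.mp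
      (IsFractionRing.injective _ (FractionRing (X.presheaf.stalk x.1 ⧸ p.1)) (h1.symm.trans (map_zero _).symm))
    obtain ⟨hηx, hiff⟩ := hpt x p.1
    let η := UFDExtLib.pt V (p.1.comap (X.presheaf.germ V.1 x.1 x.2.1).hom)
    have hne : η ≠ x.1 := fun h => hDd x x.2 (h ▸ (hiff d).mpr (hmin x p.1 p.2))
    have hη : IsGen η := FinPicLib.isGen_of_specializes hdim hηx hne
    have hr' : η ∈ X.basicOpen r := by
      obtain ⟨k, hk⟩ := s.2
      have h2 : η ∈ X.basicOpen (X.presheaf.map (homOfLE hd).op e *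
          X.presheaf.map (homOfLE (X.basicOpen_le d)).op s.1) := by
        rw [Scheme.basicOpen_mul, Scheme.basicOpen_res, Scheme.basicOpen_res]
        refine ⟨⟨hgen η hη, he η hη⟩, hgen η hη, ?_⟩
        refine (hiff _).mpr ?_
        rw [← hk]
        simp only [map_pow]
        exact fun h3 => hmin x p.1 p.2 ((hPp x p).mem_of_pow_mem k h3)
      rw [hrs, Scheme.basicOpen_res] at h2
      exact h2.2
    exact (hiff r).mp hr' hr
  obtain ⟨a, ⟨a', ha'⟩, ha⟩ := exists_pole (fun i : ι => FractionRing (X.presheaf.stalk i.1.1 ⧸ i.2.1.1))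
    (fun i => ψ i.1 i.2.1) (fun i => i.2.2.1) hpole e hψe
  have hN : ∀ x : D, ∃ N : ℕ, ∀ n, N ≤ n → ∃ r ∈ IsLocalRing.maximalIdeal (X.presheaf.stalk x.1),
      algebraMap _ (Localization.Away (dx x)) r * θ x a ^ n = 1 := fun x =>
    exists_inv_pow_mem (hdm x) (hmin x) (θ x a) fun p _ hp _ O hO hOt => ha ⟨x, ⟨p, hp⟩, O, hO, hOt⟩
  choose N hN using hN
  haveI := Fintype.ofFinite D
  let n := Finset.univ.sup N + 1
  refine ⟨a ^ n, ?_, fun x hxV hxU => ?_⟩
  · rw [X.basicOpen_pow a (Nat.succ_pos _), ha', Scheme.basicOpen_mul]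
    exact inf_le_left
  let x' : D := ⟨x, hxV, hxU⟩
  obtain ⟨r, hr, hra⟩ := hN x' n ((Finset.le_sup (Finset.mem_univ x')).trans (Nat.le_succ _))
  obtain ⟨⟨c, s⟩, hcs⟩ : ∃ cs : Γ(X, V.1) × Submonoid.powers d,
      X.presheaf.map (homOfLE hd).op (a ^ n) * X.presheaf.map (homOfLE (X.basicOpen_le d)).op cs.2.1 =
        X.presheaf.map (homOfLE (X.basicOpen_le d)).op cs.1 := by
    haveI := V.2.isLocalization_basicOpen d
    exact IsLocalization.surj (Submonoid.powers d) (X.presheaf.map (homOfLE hd).op (a ^ n))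
  obtain ⟨O₀, hxO₀, b, rfl⟩ := X.presheaf.exists_germ_eq (x := x) r
  have h1 := congrArg (ρ x') hcs
  rw [map_mul, hρ, hρ, show ρ x' (X.presheaf.map (homOfLE hd).op (a ^ n)) = θ x' a ^ n from map_pow (θ x') a n] at h1
  have h2 : algebraMap (X.presheaf.stalk x) (Localization.Away (dx x'))
      (X.presheaf.germ O₀ x hxO₀ b * X.presheaf.germ V.1 x hxV c) =
      algebraMap _ _ (X.presheaf.germ V.1 x hxV s.1) := by
    rw [map_mul, ← h1, ← mul_assoc, hra, one_mul]
  obtain ⟨⟨_, l, rfl⟩, hl⟩ := (IsLocalization.eq_iff_exists (Submonoid.powers (dx x')) _).mp h2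
  let O₁ := O₀ ⊓ V.1
  have hl' : X.presheaf.germ O₁ x ⟨hxO₀, hxV⟩ ((X.presheaf.map (homOfLE (inf_le_right : O₁ ≤ V.1)).op d) ^ l *
      (X.presheaf.map (homOfLE (inf_le_left : O₁ ≤ O₀)).op b * X.presheaf.map (homOfLE (inf_le_right : O₁ ≤ V.1)).op c)) =
      X.presheaf.germ O₁ x ⟨hxO₀, hxV⟩ ((X.presheaf.map (homOfLE (inf_le_right : O₁ ≤ V.1)).op d) ^ l *
        X.presheaf.map (homOfLE (inf_le_right : O₁ ≤ V.1)).op s.1) := by
    simp only [map_mul, map_pow, TopCat.Presheaf.germ_res_apply]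
    exact hl
  obtain ⟨O, hxO, i₁, i₂, hO⟩ := TopCat.Presheaf.germ_eq X.presheaf x _ _ _ _ hl'
  refine ⟨O, X.presheaf.map (homOfLE (i₁.le.trans inf_le_left)).op b, i₁.le.trans inf_le_right, hxO, ?_,
    fun W h₁ h₂ => ?_⟩
  · rw [Scheme.basicOpen_res, Opens.mem_inf, not_and]
    exact fun _ h => (IsLocalRing.mem_maximalIdeal _).mp hr ((X.mem_basicOpen b x hxO₀).mp h)
  · have hWV : W ≤ V.1 := h₂.trans (X.basicOpen_le d)
    have h3 := congrArg (X.presheaf.map (homOfLE h₁).op) hO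
    simp only [map_mul, map_pow] at h3
    have hres : ∀ {A B : X.Opens} (i : O ⟶ A) (h : A ≤ B) (z : Γ(X, B)),
        X.presheaf.map (homOfLE h₁).op (X.presheaf.map i.op (X.presheaf.map (homOfLE h).op z)) =
          X.presheaf.map (homOfLE (h₁.trans (i.le.trans h))).op z := fun i h z => by
      rw [← CommRingCat.comp_apply, ← CommRingCat.comp_apply, ← X.presheaf.map_comp, ← X.presheaf.map_comp]
      rfl
    simp only [hres] at h3
    have h4 := congrArg (X.presheaf.map (homOfLE h₂).op) hcs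
    have hres2 : ∀ {B : X.Opens} (h : X.basicOpen d ≤ B) (z : Γ(X, B)),
        X.presheaf.map (homOfLE h₂).op (X.presheaf.map (homOfLE h).op z) =
          X.presheaf.map (homOfLE (h₂.trans h)).op z := fun h z => AmpleLib.res_res (Coh.structureModule X) h h₂ z
    simp only [map_mul, hres2] at h4
    have hud : IsUnit (X.presheaf.map (homOfLE hWV).op d) := by
      have h := (X.toRingedSpace.isUnit_res_basicOpen d).map (X.presheaf.map (homOfLE h₂).op).hom
      exact (congrArg IsUnit (hres2 (X.basicOpen_le d) d)).mp h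
    have hus : IsUnit (X.presheaf.map (homOfLE hWV).op s.1) := by
      obtain ⟨k, hk⟩ := s.2
      rw [← hk]
      simp only [map_pow]
      exact hud.pow k
    rw [← h4, ← mul_assoc, ← mul_assoc] at h3
    rw [show X.presheaf.map (homOfLE h₁).op (X.presheaf.map (homOfLE (i₁.le.trans inf_le_left)).op b) =
      X.presheaf.map (homOfLE (h₁.trans (i₁.le.trans inf_le_left))).op b from AmpleLib.res_res (Coh.structureModule X) _ h₁ b]
    refine ((hud.pow l).mul hus).mul_left_cancel ?_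
    rw [mul_one]
    refine Eq.trans ?_ h3
    ring

theorem exists_ample [IsNoetherian X] [X.IsSeparated] (hdim : topologicalKrullDim X ≤ 1) :
    ∃ L : X.Modules, CohB1.IsAmple L := by
  classical
  let G : Set X := {η | IsGen η}
  have hGfin : G.Finite := FinPicLib.finite_isGen (α := X)
  obtain ⟨U₀, hU₀, hGU₀⟩ := exists_affine_of_finite hdim G hGfin
  have hD₀fin : ((U₀ : Set X)ᶜ).Finite := FinPicLib.finite_of_closed hdim U₀.2.isClosed_compl fun z hz h => hz (hGU₀ h)
  obtain ⟨V, hV, hTV⟩ := exists_affine_of_finite hdim ((U₀ : Set X)ᶜ ∪ G) (hD₀fin.union hGfin)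
  obtain ⟨d, hGd, hdU₀⟩ := AffContLib.exists_basicOpen_avoiding hV U₀.2.isClosed_compl G hGfin
    (fun z hz => hTV (Or.inr hz)) (Set.disjoint_left.2 fun z hz h => h (hGU₀ hz))
  have hdle : X.basicOpen d ≤ U₀ := fun z hz => not_not.mp (Set.disjoint_left.mp hdU₀ hz)
  let Z : Set X := (V : Set X) \ X.basicOpen d
  have hZfin : Z.Finite := (FinPicLib.finite_of_closed hdim (X.basicOpen d).2.isClosed_compl
    (fun z hz h => hz (hGd h))).subset fun z hz => hz.2
  have hZ : IsClosed Z := isClosed_of_finite hdim hZfin fun z hz h => hz.2 (hGd h)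
  let U : X.Opens := ⟨Zᶜ, hZ.isOpen_compl⟩
  have hcover : ∀ z : X, z ∈ U ∨ z ∈ V := fun z => by
    by_cases h : z ∈ V
    · exact Or.inr h
    · exact Or.inl fun hz => h hz.1
  have hUV : ∀ z, z ∈ U → z ∈ V → z ∈ X.basicOpen d := fun z hz hzV => by_contra fun h => hz ⟨hzV, h⟩
  have hdU : X.basicOpen d ≤ U := fun z hz h => h.2 hz
  have hUU₀ : U ≤ U₀ := fun z hz => by
    by_contra h
    exact h (hdle (hUV z hz (hTV (Or.inl h))))
  let A := (Scheme.Modules.pushforward U.ι).obj (Coh.structureModule (U : Scheme.{u}))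
  let σ : Γ(A, ⊤) := (1 : Γ((U : Scheme.{u}), U.ι ⁻¹ᵁ ⊤))
  have hσ : GenOn A (res A (le_top : U ≤ ⊤) σ) := by
    intro W hW
    have hb : Function.Bijective (U.ι.app W) := by
      haveI := U.ι.isIso_app W (hW.trans_eq (Scheme.Opens.opensRange_ι U).symm)
      exact ConcreteCategory.bijective_of_isIso (U.ι.app W)
    have e : (fun r : Γ(X, W) => r • res A hW (res A (le_top : U ≤ ⊤) σ)) = fun r => U.ι.app W r := funext fun r => by
      rw [AmpleLib.res_res]
      refine (congrArg (fun t : Γ((U : Scheme.{u}), U.ι ⁻¹ᵁ W) => (U.ι.app W).hom r * t)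
        (map_one ((U : Scheme.{u}).presheaf.map (homOfLE (U.ι.preimage_mono (le_top : W ≤ ⊤))).op).hom)).trans (mul_one _)
    rw [e]
    exact hb
  have hgens : ∀ y ∈ U, ∃ O : X.Opens, y ∈ O ∧ O ≤ U ∧ ∃ g : Γ(A, O), GenOn A g :=
    fun y hy => ⟨U, hy, le_rfl, _, hσ⟩
  -- a first line bundle shows that `U` is affine
  have hUaff : IsAffineOpen U := by
    obtain ⟨v, hv⟩ : ∃ v : Γ(X, X.basicOpen d), v * X.presheaf.map (homOfLE (X.basicOpen_le d)).op d = 1 :=
      isUnit_iff_exists_inv'.mp (X.toRingedSpace.isUnit_res_basicOpen d)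
    have hle : V ⊓ U ≤ X.basicOpen d := fun z hz => hUV z hz.2 hz.1
    let w : Γ(X, V ⊓ U) := X.presheaf.map (homOfLE hle).op v
    have hw : w * X.presheaf.map (homOfLE inf_le_left).op d = 1 := by
      have h := congrArg (X.presheaf.map (homOfLE hle).op) hv
      rw [map_mul, map_one] at h
      exact (congrArg (w * ·) (AmpleLib.res_res (Coh.structureModule X) (X.basicOpen_le d) hle d)).symm.trans h
    obtain ⟨E, hE⟩ := (UFDExtLib.res_push_bijective U (Coh.structureModule (U : Scheme.{u}))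
      (inf_le_left : V ⊓ U ≤ V) le_rfl).2 (w • res A le_top σ)
    obtain ⟨L, p, ε, hL, hp, hε, hlift⟩ := DiscExtLib.exists_glue_module (U := U) (D := fun _ : PUnit.{u+1} => V)
      (A := A) (E := fun _ => E) (fun _ W hW h => by
        have e : (fun r : Γ(X, W) => r • res A h E) =
            (fun r => r • res A hW (res A (le_top : U ≤ ⊤) σ)) ∘ fun r => r * X.presheaf.map (homOfLE (le_inf h hW)).op w :=
          funext fun r => by
            simp only [Function.comp_apply]
            rw [← AmpleLib.res_res A (inf_le_left : V ⊓ U ≤ V) (le_inf h hW), hE, AmpleLib.res_smul,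
              AmpleLib.res_res, AmpleLib.res_res, smul_smul]
        rw [e]
        exact (hσ W hW).comp ((IsUnit.of_mul_eq_one _ hw).map (X.presheaf.map (homOfLE (le_inf h hW)).op).hom).unit.mulRight.bijective)
      (fun z => (hcover z).imp id fun h => ⟨⟨⟩, h⟩) (fun i j h => absurd rfl h) hgens
    let c : PUnit.{u+1} → Γ(X, ⊤ ⊓ V) := fun _ => X.presheaf.map (homOfLE inf_le_right).op d
    obtain ⟨t, ht, htc⟩ := hlift ⊤ σ c fun i => by
      refine (UFDExtLib.res_push_bijective U (Coh.structureModule (U : Scheme.{u}))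
        (inf_le_left : ⊤ ⊓ V ⊓ U ≤ ⊤ ⊓ V) le_rfl).1 ?_
      show res A _ (res A inf_le_left σ) = res A _ (c i • res A inf_le_right E)
      have hle' : ⊤ ⊓ V ⊓ U ≤ V ⊓ U := inf_le_inf_right U inf_le_right
      rw [AmpleLib.res_smul, AmpleLib.res_res, AmpleLib.res_res, ← AmpleLib.res_res A (inf_le_left : V ⊓ U ≤ V) hle',
        hE, AmpleLib.res_smul, AmpleLib.res_res, smul_smul]
      conv_lhs => rw [← one_smul Γ(X, ⊤ ⊓ V ⊓ U) (res A _ σ)]
      refine congrArg₂ (· • ·) ?_ rfl
      rw [← map_one (X.presheaf.map (homOfLE hle').op).hom, ← hw, map_mul, mul_comm]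
      exact congrArg (· * _) ((AmpleLib.res_res (Coh.structureModule X) _ hle' d).trans
        (AmpleLib.res_res (Coh.structureModule X) _ _ d).symm)
    have hset : U₀ ⊓ genSet hL t = U := by
      ext z
      constructor
      · rintro ⟨hz0, hz⟩
        by_contra hzU
        have hzV : z ∈ V := (hcover z).resolve_left hzU
        have hz' : z ∈ ⊤ ⊓ V := ⟨trivial, hzV⟩
        have h1 := (AmpleLib.genAt_res (inf_le_left : ⊤ ⊓ V ≤ ⊤) t hz').mpr hz
        rw [htc ⟨⟩, AmpleLib.genAt_smul_iff _ _ _ (((hε ⟨⟩).1.res inf_le_right).genAt hz'), Scheme.basicOpen_res] at h1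
        exact hzU (hdU h1.2)
      · intro hz
        refine ⟨hUU₀ hz, (AmpleLib.genAt_res (le_top : U ≤ ⊤) t hz).mp ?_⟩
        have hg : GenOn L (res L (le_top : U ≤ ⊤) t) := fun W hW => by
          refine (Function.Bijective.of_comp_iff' (hp W hW) _).mp ?_
          have e : ((p.app W) ∘ fun r : Γ(X, W) => r • res L hW (res L (le_top : U ≤ ⊤) t)) =
              fun r => r • res A hW (res A (le_top : U ≤ ⊤) σ) := funext fun r =>
            (QCohLib.app_smul p W r _).trans (congrArg (r • ·) ((QCohLib.app_map p (homOfLE hW) _).trans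
              (congrArg _ ((QCohLib.app_map p (homOfLE le_top) t).trans (congrArg _ ht)))))
          rw [e]
          exact hσ W hW
        exact hg.genAt hz
    exact hset ▸ isAffineOpen_inf_genSet hL t hU₀
  have hUG : ∀ η : X, IsGen η → η ∈ U := fun η h => hdU (hGd h)
  obtain ⟨e, hGe, heV⟩ := AffContLib.exists_basicOpen_avoiding hUaff V.2.isClosed_compl G hGfin hUG
    (Set.disjoint_left.2 fun z hz h => h (hTV (Or.inr hz)))
  have heV' : X.basicOpen e ≤ V := fun z hz => not_not.mp (Set.disjoint_left.mp heV hz)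
  obtain ⟨a, hae, hab⟩ := exists_deep_pole hdim ⟨U, hUaff⟩ ⟨V, hV⟩ d hdU (fun η h => hGd h) e (fun η h => hGe h)
  have hZV : ∀ x : Z, x.1 ∈ V := fun x => x.2.1
  choose O b hOV hxO hxb hb using fun x : Z => hab x.1 (hZV x) fun h => h x.2
  -- shrink the neighbourhoods so that they separate the missing points
  have hsep : ∀ x : Z, IsClosed (Z \ {x.1}) := fun x =>
    isClosed_of_finite hdim (hZfin.subset Set.diff_subset) fun z hz h => hz.1.2 (hGd h)
  let D : Z → X.Opens := fun x => O x ⊓ ⟨(Z \ {x.1})ᶜ, (hsep x).isOpen_compl⟩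
  have hxD : ∀ x, x.1 ∈ D x := fun x => ⟨hxO x, fun h => h.2 rfl⟩
  have honly : ∀ (x : Z), ∀ z ∈ D x, z ∉ U → z = x.1 := fun x z hz hzU =>
    by_contra fun hne => hz.2 ⟨not_not.mp hzU, hne⟩
  have hDle : ∀ x, D x ⊓ U ≤ X.basicOpen d := fun x z hz => hUV z hz.2 (hOV x hz.1.1)
  let α : ∀ x, Γ(X, D x ⊓ U) := fun x => X.presheaf.map (homOfLE inf_le_right).op a
  have hbα : ∀ x, X.presheaf.map (homOfLE (inf_le_left.trans inf_le_left : D x ⊓ U ≤ O x)).op (b x) * α x = 1 :=
    fun x => hb x _ _ (hDle x)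
  choose E hE using fun x => (UFDExtLib.res_push_bijective U (Coh.structureModule (U : Scheme.{u}))
    (inf_le_left : D x ⊓ U ≤ D x) le_rfl).2 (α x • res A le_top σ)
  obtain ⟨L, p, ε, hL, hp, hε, hlift⟩ := DiscExtLib.exists_glue_module (U := U) (D := D) (A := A) (E := E)
    (fun x W hW h => by
      have e : (fun r : Γ(X, W) => r • res A h (E x)) =
          (fun r => r • res A hW (res A (le_top : U ≤ ⊤) σ)) ∘ fun r => r * X.presheaf.map (homOfLE (le_inf h hW)).op (α x) :=
        funext fun r => by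
          simp only [Function.comp_apply]
          rw [← AmpleLib.res_res A (inf_le_left : D x ⊓ U ≤ D x) (le_inf h hW), hE x, AmpleLib.res_smul,
            AmpleLib.res_res, AmpleLib.res_res, smul_smul]
      rw [e]
      exact (hσ W hW).comp ((IsUnit.of_mul_eq_one _ ((mul_comm _ _).trans (hbα x))).map
        (X.presheaf.map (homOfLE (le_inf h hW)).op).hom).unit.mulRight.bijective)
    (fun z => (em (z ∈ U)).imp id fun h => ⟨⟨z, not_not.mp h⟩, hxD _⟩)
    (fun i j hij z hz => by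
      by_contra hzU
      exact hij (Subtype.ext ((honly i z hz.1 hzU).symm.trans (honly j z hz.2 hzU)))) hgens
  have hA1 : ∀ (x : Z) {W : X.Opens} (h : W ≤ D x ⊓ U),
      res A (h.trans inf_le_left) (E x) = X.presheaf.map (homOfLE (h.trans inf_le_right)).op a • res A le_top σ := by
    intro x W h
    rw [← AmpleLib.res_res A (inf_le_left : D x ⊓ U ≤ D x) h, hE x, AmpleLib.res_smul, AmpleLib.res_res]
    exact congrArg (· • _) (AmpleLib.res_res (Coh.structureModule X) _ h a)
  -- the two sections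
  obtain ⟨s, hs, hsc⟩ := hlift ⊤ σ
    (fun x => X.presheaf.map (homOfLE ((inf_le_right : ⊤ ⊓ D x ≤ D x).trans inf_le_left)).op (b x)) fun x => by
    refine (UFDExtLib.res_push_bijective U (Coh.structureModule (U : Scheme.{u}))
      (inf_le_left : ⊤ ⊓ D x ⊓ U ≤ ⊤ ⊓ D x) le_rfl).1 ?_
    show res A _ (res A inf_le_left σ) = res A _ (_ • res A inf_le_right (E x))
    have hle : ⊤ ⊓ D x ⊓ U ≤ D x ⊓ U := inf_le_inf_right U inf_le_right
    rw [AmpleLib.res_smul, AmpleLib.res_res, AmpleLib.res_res, hA1 x hle, smul_smul]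
    conv_lhs => rw [← one_smul Γ(X, ⊤ ⊓ D x ⊓ U) (res A _ σ)]
    refine congrArg₂ (· • ·) ?_ rfl
    rw [← map_one (X.presheaf.map (homOfLE hle).op).hom, ← hbα x, map_mul]
    exact congrArg₂ (· * ·) ((AmpleLib.res_res (Coh.structureModule X) _ hle (b x)).trans
      (AmpleLib.res_res (Coh.structureModule X) _ _ (b x)).symm) (AmpleLib.res_res (Coh.structureModule X) _ hle a)
  obtain ⟨τ, hτ⟩ := (UFDExtLib.res_push_bijective U (Coh.structureModule (U : Scheme.{u}))
    (le_top : U ≤ ⊤) inf_le_right).2 (a • res A le_top σ)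
  obtain ⟨t, ht, htc⟩ := hlift ⊤ τ (fun _ => 1) fun x => by
    refine (UFDExtLib.res_push_bijective U (Coh.structureModule (U : Scheme.{u}))
      (inf_le_left : ⊤ ⊓ D x ⊓ U ≤ ⊤ ⊓ D x) le_rfl).1 ?_
    show res A _ (res A inf_le_left τ) = res A _ ((1 : Γ(X, ⊤ ⊓ D x)) • res A inf_le_right (E x))
    have hle : ⊤ ⊓ D x ⊓ U ≤ D x ⊓ U := inf_le_inf_right U inf_le_right
    rw [one_smul, AmpleLib.res_res, AmpleLib.res_res, hA1 x hle,
      ← AmpleLib.res_res A (le_top : U ≤ ⊤) (inf_le_right : ⊤ ⊓ D x ⊓ U ≤ U), hτ, AmpleLib.res_smul, AmpleLib.res_res]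
  have htrans : ∀ (u' : Γ(L, ⊤)) (v : Γ(X, U)), p.app U (res L le_top u') = v • res A le_top σ →
      ∀ z (hz : z ∈ U), (z ∈ genSet hL u' ↔ z ∈ X.basicOpen v) := by
    intro u' v hu z hz
    obtain ⟨g, hg⟩ := (hp U le_rfl).2 (res A le_top σ)
    have hgg : GenOn L g := fun W hW => by
      refine (Function.Bijective.of_comp_iff' (hp W hW) _).mp ?_
      have e : ((p.app W) ∘ fun r : Γ(X, W) => r • res L hW g) = fun r => r • res A hW (res A (le_top : U ≤ ⊤) σ) :=
        funext fun r => (QCohLib.app_smul p W r _).trans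
          (congrArg (r • ·) ((QCohLib.app_map p (homOfLE hW) g).trans (congrArg _ hg)))
      rw [e]
      exact hσ W hW
    have hug : res L (le_top : U ≤ ⊤) u' = v • g :=
      (hp U le_rfl).1 (hu.trans ((congrArg (v • ·) hg.symm).trans (QCohLib.app_smul p U v g).symm))
    show GenAt L u' _ ↔ _
    rw [← AmpleLib.genAt_res (le_top : U ≤ ⊤) u' hz, hug]
    exact AmpleLib.genAt_smul_iff v g hz (hgg.genAt hz)
  have hs_iff : ∀ z, z ∈ genSet hL s ↔ z ∈ U := fun z => by
    refine ⟨fun h => by_contra fun hzU => ?_, fun hz => (htrans s 1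
      (((QCohLib.app_map p (homOfLE le_top) s).trans (congrArg _ hs)).trans (one_smul _ _).symm) z hz).mpr
        (by rw [Scheme.basicOpen_one]; exact hz)⟩
    let x : Z := ⟨z, not_not.mp hzU⟩
    have hz' : z ∈ ⊤ ⊓ D x := ⟨trivial, hxD x⟩
    have h1 := (AmpleLib.genAt_res (inf_le_left : ⊤ ⊓ D x ≤ ⊤) s hz').mpr h
    rw [hsc x, AmpleLib.genAt_smul_iff _ _ _ (((hε x).1.res inf_le_right).genAt hz'), Scheme.basicOpen_res] at h1
    exact hxb x h1.2
  have ht_iff : ∀ z, z ∈ U → (z ∈ genSet hL t ↔ z ∈ X.basicOpen a) := fun z hz =>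
    htrans t a (((QCohLib.app_map p (homOfLE le_top) t).trans (congrArg _ ht)).trans hτ) z hz
  have ht_not : ∀ z, z ∉ U → z ∈ genSet hL t := fun z hzU => by
    let x : Z := ⟨z, not_not.mp hzU⟩
    have hz' : z ∈ ⊤ ⊓ D x := ⟨trivial, hxD x⟩
    refine (AmpleLib.genAt_res (inf_le_left : ⊤ ⊓ D x ≤ ⊤) t hz').mp ?_
    rw [htc x, one_smul]
    exact ((hε x).1.res inf_le_right).genAt hz'
  have hsU : genSet hL s = U := by ext z; exact hs_iff z
  have htV : genSet hL t ≤ V := fun z hz => by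
    by_cases hzU : z ∈ U
    · exact heV' (hae ((ht_iff z hzU).mp hz))
    · exact (not_not.mp hzU).1
  have htaff : IsAffineOpen (genSet hL t) := by
    have := isAffineOpen_inf_genSet hL t hV
    rwa [inf_eq_right.mpr htV] at this
  refine ⟨L, (AmpleThLib.isAmple_iff (hL := hL)).mpr ⟨inferInstance, fun z => ?_⟩⟩
  by_cases hz : z ∈ U
  · exact ⟨1, U, one_pos, ⟨AmpleThLib.pS s 1, (AmpleThLib.genSet_pS hL s one_pos).trans hsU⟩, hz, hUaff⟩
  · exact ⟨1, genSet hL t, one_pos, ⟨AmpleThLib.pS t 1, AmpleThLib.genSet_pS hL t one_pos⟩, ht_not z hz, htaff⟩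

end CurveAmpLib
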