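import Groth.Agent.CurveAmpLib.Integral
import Groth.Agent.AffContLib.Union
import Groth.Agent.AffContLib.Semi
import Groth.Agent.DevissLib.ClosedImm

/-!
# Finite sets in affine opens: separated Noetherian schemes of dimension at most one
-/

set_option autoImplicit false
universe u

open CategoryTheory AlgebraicGeometry TopologicalSpace Opposite
open FinPicLib (IsGen)

noncomputable section

namespace CurveAmpLib

variable {X : Scheme.{u}}

theorem exists_affine_of_finite_integral [IsIntegral X] [IsNoetherian X] [X.IsSeparated]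
    (hdim : topologicalKrullDim X ≤ 1) (T : Set X) (hT : T.Finite) :
    ∃ U : X.Opens, IsAffineOpen U ∧ T ⊆ U := by
  obtain ⟨U, hU, hTU⟩ := exists_affine_of_closed hdim (T \ {t | IsGen t}) (hT.subset Set.diff_subset)
    fun t ht => ht.2
  rcases (T \ {t | IsGen t}).eq_empty_or_nonempty with he | ⟨t₁, ht₁⟩
  · obtain ⟨W, hW, hηW, -⟩ := exists_isAffineOpen_mem_and_subset (x := genericPoint X) (U := ⊤) trivial
    refine ⟨W, hW, fun t ht => ?_⟩
    have : IsGen t := by_contra fun h => Set.eq_empty_iff_forall_notMem.mp he t ⟨ht, h⟩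
    exact (this _ ((genericPoint_spec X).specializes trivial)) ▸ hηW
  · refine ⟨U, hU, fun t ht => ?_⟩
    by_cases hg : IsGen t
    · exact (hg _ ((genericPoint_spec X).specializes trivial)) ▸
        ((genericPoint_spec X).mem_open_set_iff U.2).mpr ⟨t₁, trivial, hTU ht₁⟩
    · exact hTU ⟨ht, hg⟩

/-- Finitely many points of a separated Noetherian scheme of dimension at most one lie in an affine open. -/
theorem exists_affine_of_finite [IsNoetherian X] [X.IsSeparated] (hdim : topologicalKrullDim X ≤ 1)
    (T : Set X) (hT : T.Finite) : ∃ U : X.Opens, IsAffineOpen U ∧ T ⊆ U := by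
  classical
  have hfin : (irreducibleComponents (X : Type u)).Finite := NoetherianSpace.finite_irreducibleComponents
  refine AffContLib.exists_affine_of_finite (T := T) hT hfin.toFinset
    (fun x => ⟨irreducibleComponent x, hfin.mem_toFinset.2 (irreducibleComponent_mem_irreducibleComponents x),
      mem_irreducibleComponent⟩) fun Z hZ => ?_
  have hZ' := hfin.mem_toFinset.1 hZ
  let I := Scheme.IdealSheafData.vanishingIdeal (⟨Z, isClosed_of_mem_irreducibleComponents Z hZ'⟩ : Closeds X)
  have hrange : Set.range I.subschemeι = Z := by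
    rw [Scheme.IdealSheafData.range_subschemeι]
    exact Scheme.IdealSheafData.coe_support_vanishingIdeal _
  haveI : IsIntegral I.subscheme := by
    haveI := DevissLib.isReduced_vanishingIdeal' (⟨Z, isClosed_of_mem_irreducibleComponents Z hZ'⟩ : Closeds X)
    haveI : IrreducibleSpace I.subscheme := by
      have hi := I.subschemeι.isEmbedding
      have hne : Nonempty I.subscheme := by
        obtain ⟨x, hx⟩ := hZ'.1.1
        obtain ⟨z, -⟩ := hrange.ge hx
        exact ⟨z⟩
      have hpre : IsPreirreducible (Set.univ : Set I.subscheme) := by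
        rintro u v hu hv ⟨a, -, ha⟩ ⟨b, -, hb⟩
        obtain ⟨u', hu', rfl⟩ := hi.isInducing.isOpen_iff.mp hu
        obtain ⟨v', hv', rfl⟩ := hi.isInducing.isOpen_iff.mp hv
        obtain ⟨_, hy, hyu, hyv⟩ :=
          hZ'.1.2 u' v' hu' hv' ⟨_, hrange.le ⟨a, rfl⟩, ha⟩ ⟨_, hrange.le ⟨b, rfl⟩, hb⟩
        obtain ⟨z, rfl⟩ := hrange.ge hy
        exact ⟨z, trivial, hyu, hyv⟩
      exact { isPreirreducible_univ := hpre, toNonempty := hne }
    exact isIntegral_of_irreducibleSpace_of_isReduced _
  haveI : IsLocallyNoetherian I.subscheme := LocallyOfFiniteType.isLocallyNoetherian I.subschemeι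
  haveI : CompactSpace I.subscheme := QuasiCompact.compactSpace_of_compactSpace I.subschemeι
  haveI : IsNoetherian I.subscheme := ⟨⟩
  haveI : I.subscheme.IsSeparated := ⟨by
    rw [Subsingleton.elim (Limits.terminal.from I.subscheme) (I.subschemeι ≫ Limits.terminal.from X)]
    infer_instance⟩
  obtain ⟨V, hV, hTV⟩ := exists_affine_of_finite_integral (X := I.subscheme)
    (I.subschemeι.isClosedEmbedding.isInducing.topologicalKrullDim_le.trans hdim)
    (I.subschemeι ⁻¹' T) (hT.preimage I.subschemeι.isClosedEmbedding.injective.injOn)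
  exact ⟨_, I.subschemeι, inferInstance, hrange, V, hV, hTV⟩

end CurveAmpLib
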