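import Groth.Agent.CurveAmpLib.Main
import Groth.Agent.AmpleThLib.ProjA
import Groth.Agent.AmpleDevLib.Pull
import Groth.Agent.AmpleDevLib.Components
import Groth.Agent.SerreVanLib.CurveAmple
import Groth.Agent.DiscExtLib.Main
import Groth.Agent.S7642

/-!
# Complements of finitely many points of proper curves are affine
-/

set_option autoImplicit false
universe u

open CategoryTheory CategoryTheory.Limits AlgebraicGeometry TopologicalSpace Opposite Topology
open AmpleLib (res GenAt GenOn)
open TwistLib (genSet)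
open FinPicLib (IsGen)

noncomputable section

namespace CurveAmpLib

/-- Loci of sections of ample invertible modules on proper schemes over affine bases are affine. -/
theorem isAffineOpen_genSet {R : Type u} [CommRing R] {X : Scheme.{u}} (q : X ⟶ Spec (CommRingCat.of R))
    [IsProper q] {L : X.Modules} (hL : PicF.IsInvertible L) (hA : CohB1.IsAmple L) (σ : Γ(L, ⊤)) :
    IsAffineOpen (genSet hL σ) := by
  obtain ⟨n₀, h⟩ := AmpleThLib.exists_data q hL hA
  obtain ⟨m, v, K, hcov, haff, -⟩ := h (n₀ + 1) (Nat.le_succ _)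
  have hM := AmpleThLib.tensorPow_isInvertible hL (n₀ + 1)
  let v' : Fin (m + 1 + 1) → Γ(CohB1.tensorPow L (n₀ + 1), ⊤) := Fin.cons (AmpleThLib.pS σ (n₀ + 1)) v
  obtain ⟨r, hrb, hpre, -⟩ := AmpleThLib.exists_toPA q hM v' fun x => by
    obtain ⟨k, -, hx⟩ := hcov x
    exact ⟨k.succ, hx⟩
  let p := AmpleThLib.baseA (CohB1.polyGrading (m + 1) R)
  have : IsProper (r ≫ p) := by rw [hrb]; infer_instance
  have : IsSeparated p := by simp only [p, AmpleThLib.baseA]; infer_instance
  have : IsProper r := IsProper.of_comp r p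
  have hfin : ∀ y, (r ⁻¹' {y}).Finite := fun y => by
    rcases Set.eq_empty_or_nonempty (r ⁻¹' {y}) with h0 | ⟨x, hx⟩
    · rw [h0]; exact Set.finite_empty
    obtain ⟨k, hk, hxk⟩ := hcov x
    let D := Proj.basicOpen (CohB1.polyGrading (m + 1) R) (MvPolynomial.X k.succ)
    have hD : r ⁻¹ᵁ D = genSet hM (v k) := hpre k.succ
    have : IsAffine (r ⁻¹ᵁ D).toScheme := hD.symm ▸ haff k hk
    have : IsAffine D.toScheme :=
      Proj.isAffineOpen_basicOpen _ _ (MvPolynomial.isHomogeneous_X R k.succ) one_pos
    have : IsFinite (r ∣_ D) := IsFinite.iff_isProper_and_isAffineHom.mpr ⟨inferInstance, inferInstance⟩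
    have hyD : y ∈ D := by
      rw [← show r x = y from hx]
      exact hD.ge hxk
    refine (((r ∣_ D).finite_preimage_singleton ⟨y, hyD⟩).image (r ⁻¹ᵁ D).ι).subset fun z hz => ?_
    have hzD : z ∈ r ⁻¹ᵁ D := show r z ∈ D from (show r z = y from hz).symm ▸ hyD
    refine ⟨⟨z, hzD⟩, ?_, rfl⟩
    exact Subtype.ext ((morphismRestrict_base_coe r D ⟨z, hzD⟩).trans hz)
  have : LocallyQuasiFinite r := LocallyQuasiFinite.of_finite_preimage_singleton r hfin
  have : IsFinite r := IsFinite.of_isProper_of_locallyQuasiFinite r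
  have h0 := (Proj.isAffineOpen_basicOpen (CohB1.polyGrading (m + 1) R) _
    (MvPolynomial.isHomogeneous_X R (0 : Fin (m + 1 + 1))) one_pos).preimage r
  rw [hpre 0] at h0
  rwa [show v' 0 = AmpleThLib.pS σ (n₀ + 1) from rfl, AmpleThLib.genSet_pS hL σ (Nat.succ_pos _)] at h0

theorem one_le_of_not_le_zero {d : WithBot ℕ∞} (h : ¬ d ≤ 0) : 1 ≤ d := by
  induction d with
  | bot => exact absurd bot_le h
  | coe d => exact WithBot.coe_le_coe.mpr (Order.one_le_iff_ne_zero.mpr fun h0 => h (by simp [h0]))

variable (k : Type u) [Field k]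

/-- A nonzero section which is not nowhere vanishing has positive degree. -/
theorem deg_pos_of_section {X : Scheme.{u}} [X.Over (Spec (CommRingCat.of k))] [IsIntegral X]
    [IsProper (X ↘ Spec (CommRingCat.of k))] (hdim : topologicalKrullDim X = 1) {P : X.Modules}
    (hP : PicF.IsInvertible P) (σ : Γ(P, ⊤)) (hne : (genSet hP σ : Set X).Nonempty) (htop : genSet hP σ ≠ ⊤) :
    0 < Curv2.deg k X P 1 := by
  by_contra hd
  let s := QCohLib.unitHom P σ
  have hs : s ≠ 0 := fun h0 => by
    obtain ⟨x, hx⟩ := hne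
    have h2 : σ = 0 := by
      have := congrArg (fun φ : Coh.structureModule X ⟶ P => φ.app ⊤ (1 : Γ(X, ⊤))) h0
      change (QCohLib.unitHom P σ).app ⊤ (1 : Γ(X, ⊤)) = 0 at this
      rw [QCohLib.unitHom_app, one_smul] at this
      exact (QCohLib.toSections_top P σ).symm.trans this
    subst h2
    exact SerreVanLib.zero_not_genAt (show GenAt P (0 : Γ(P, ⊤)) (show x ∈ (⊤ : X.Opens) from trivial) from hx)
  haveI := CurvLib.isIso_of_euler_le (k := k) CurvLib.isInvertible_structureModule hP hdim hs (by
    rw [Curv2.deg] at hd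
    push_cast at hd
    omega)
  exact htop ((AmpleThLib.genLocus_unitHom hP σ).symm.trans (CurvLib.genLocus_eq_top_of_isIso s))

/-- An open subscheme of a proper scheme of dimension at most one with finite complement meeting every
curve component is affine. -/
theorem isAffineOpen_of_finite_compl {Y : Scheme.{u}} [Y.Over (Spec (CommRingCat.of k))]
    [IsProper (Y ↘ Spec (CommRingCat.of k))] (hdim : topologicalKrullDim Y ≤ 1) (U : Y.Opens)
    (hfin : ((U : Set Y)ᶜ).Finite) (hgen : ∀ η : Y, IsGen η → η ∈ U)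
    (hmeet : ∀ C ∈ irreducibleComponents (Y : Type u), topologicalKrullDim C = 1 → ∃ y ∈ C, y ∉ U) :
    IsAffineOpen U := by
  let q := Y ↘ Spec (CommRingCat.of k)
  haveI : IsLocallyNoetherian Y := LocallyOfFiniteType.isLocallyNoetherian q
  haveI : CompactSpace Y := QuasiCompact.compactSpace_of_compactSpace q
  haveI : IsNoetherian Y := ⟨⟩
  have hdisc : DiscreteTopology ↥((U : Set Y)ᶜ) := by
    haveI : Finite ↥((U : Set Y)ᶜ) := hfin.to_subtype
    haveI : T1Space ↥((U : Set Y)ᶜ) := ⟨fun y => by
      have h : IsClosed ({y.1} : Set Y) :=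
        isClosed_of_finite hdim (Set.finite_singleton _) fun t ht h => y.2 (hgen y.1 (ht ▸ h))
      convert h.preimage continuous_subtype_val using 1
      exact Set.ext fun z => Subtype.ext_iff⟩
    infer_instance
  obtain ⟨L, s, hL, hs⟩ := DiscExtLib.exists_section_genLocus hdisc fun x _ =>
    ⟨inferInstance, (Ring.krullDimLE_iff).mp (krullDimLE_stalk hdim x)⟩
  rw [AmpleThLib.genLocus_hom hL s] at hs
  subst hs
  generalize (s.app ⊤ (1 : Γ(Y, ⊤))) = σ at hgen hmeet
  have hA : CohB1.IsAmple L := by
    refine (AmpleDevLib.isAmple_iff_components q hL).mpr fun Z hZ => ?_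
    let J := Scheme.IdealSheafData.vanishingIdeal Z
    letI : J.subscheme.Over (Spec (CommRingCat.of k)) := ⟨J.subschemeι ≫ q⟩
    haveI : IsProper (J.subscheme ↘ Spec (CommRingCat.of k)) := inferInstanceAs (IsProper (J.subschemeι ≫ q))
    haveI : IsIntegral J.subscheme := AmpleDevLib.isIntegral_vanishingIdeal _ hZ.1
    have hle : topologicalKrullDim J.subscheme ≤ 1 :=
      (J.subschemeι.isEmbedding.isInducing.topologicalKrullDim_le).trans hdim
    have hLJ := AmpleDevLib.isInvertible_pb J.subschemeι hL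
    by_cases h0 : topologicalKrullDim J.subscheme ≤ 0
    · exact Groth.Agent.S7642.isAmple_of_dim_le_zero k (J.subscheme ↘ Spec (CommRingCat.of k)) h0 hLJ
    have heq : topologicalKrullDim J.subscheme = 1 := hle.antisymm (one_le_of_not_le_zero h0)
    refine SerreVanLib.isAmple_of_deg_pos (k := k) heq hLJ
      (deg_pos_of_section k heq hLJ (KFlatLib.puSec J.subschemeι σ) ?_ ?_)
    · rw [AmpleDevLib.genSet_puSec J.subschemeι hL σ]
      obtain ⟨η, hη⟩ := QuasiSober.sober hZ.1 Z.isClosed
      obtain ⟨w, hw⟩ : η ∈ Set.range J.subschemeι := by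
        rw [J.range_subschemeι, Scheme.IdealSheafData.coe_support_vanishingIdeal]
        exact hη.mem
      refine ⟨w, show J.subschemeι w ∈ genSet hL σ from hw.symm ▸ hgen η fun z hz => ?_⟩
      have h2 := hZ.2 ((isIrreducible_singleton (x := z)).closure) (hη.def.symm.le.trans
        ((isClosed_closure.closure_subset_iff).mpr (Set.singleton_subset_iff.mpr (specializes_iff_mem_closure.mp hz))))
      exact (hz.antisymm (hη.specializes (h2 (subset_closure rfl)))).eq
    · rw [AmpleDevLib.genSet_puSec J.subschemeι hL σ]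
      intro htop
      have hZ1 : topologicalKrullDim (Z : Set Y) = 1 :=
        ((J.subschemeι.isEmbedding.toHomeomorph.trans (Homeomorph.setCongr (J.range_subschemeι.trans
          (Scheme.IdealSheafData.coe_support_vanishingIdeal Z)))).isHomeomorph.topologicalKrullDim_eq).symm.trans heq
      obtain ⟨y, hy, hyU⟩ := hmeet Z hZ hZ1
      obtain ⟨w, rfl⟩ : y ∈ Set.range J.subschemeι := by
        rw [J.range_subschemeι, Scheme.IdealSheafData.coe_support_vanishingIdeal]
        exact hy
      exact hyU (htop.ge (show w ∈ ⊤ from trivial))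
  exact isAffineOpen_genSet q hL hA σ

end CurveAmpLib

end
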