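import Groth.Agent.AmpleThLib.ProjA

/-!
# Immersions into projective space from ample modules
-/

set_option autoImplicit false
universe u

open CategoryTheory CategoryTheory.Limits AlgebraicGeometry TopologicalSpace Opposite
open HomogeneousLocalization AmpleLib
open TwistLib (genSet)
open AmpleThLib

noncomputable section

namespace CurveAmpLib

variable {X : Scheme.{u}} {R : Type u} [CommRing R]

theorem exists_immersion (q : X ⟶ Spec (CommRingCat.of R)) [IsSeparated q] [QuasiCompact q] [LocallyOfFiniteType q]
    {L : X.Modules} (hL : PicF.IsInvertible L) (hA : CohB1.IsAmple L) :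
    ∃ (m : ℕ) (r : X ⟶ Proj (CohB1.polyGrading m R)), IsImmersion r ∧
      r ≫ baseA (CohB1.polyGrading m R) = q := by
  obtain ⟨n₀, h⟩ := exists_data q hL hA
  obtain ⟨m, v, K, hcov, haff, hsurj⟩ := h n₀ le_rfl
  obtain ⟨r, hrb, hpre, hcoef⟩ := exists_toPA q _ v fun x => (hcov x).imp fun k hk => hk.2
  let p := baseA (CohB1.polyGrading m R)
  refine ⟨m, r, ?_, hrb⟩
  · refine isImmersion_of_local r
      (fun k : K => Proj.basicOpen (CohB1.polyGrading m R) (MvPolynomial.X (k : Fin (m + 1)))) (fun x => ?_)
      (fun ⟨k, hk⟩ => ?_)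
    · obtain ⟨k, hk, hx⟩ := hcov x
      exact ⟨⟨k, hk⟩, (hpre k).ge hx⟩
    · let D := Proj.basicOpen (CohB1.polyGrading m R) (MvPolynomial.X k)
      have : IsAffine (r ⁻¹ᵁ D).toScheme := (hpre k).symm ▸ haff k hk
      have : IsAffine D.toScheme :=
        Proj.isAffineOpen_basicOpen _ _ (MvPolynomial.isHomogeneous_X R k) one_pos
      refine IsClosedImmersion.of_surjective_of_isAffine _ ?_
      rw [Scheme.Hom.appTop, morphismRestrict_app']
      refine surjective_appLE_congr r D.ι_image_top.symm
        ((hpre k).symm.trans (Scheme.Opens.ι_image_top _).symm) (hpre k).ge _ ?_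
      intro a
      suffices h : a ∈ (r.appLE D _ (hpre k).ge).hom.range from h
      refine (show Subring.closure _ ≤ _ from Subring.closure_le.mpr ?_) ((hsurj k hk).ge (Subring.mem_top a))
      rintro _ (⟨y, rfl⟩ | ⟨l, hl⟩)
      · refine ⟨p.appLE ⊤ D le_top y, ?_⟩
        rw [← CommRingCat.comp_apply, Scheme.Hom.appLE_comp_appLE]
        simp only [p, hrb]
      · refine ⟨Proj.awayToSection (CohB1.polyGrading m R) (MvPolynomial.X k)
          (TwistLib.frac (CohB1.polyGrading m R) (MvPolynomial.isHomogeneous_X R k)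
            (MvPolynomial.isHomogeneous_X R l)), ?_⟩
        refine (TwistLib.genSet_genOn (tensorPow_isInvertible hL n₀) (v k) _ le_rfl).1 ?_
        dsimp only
        rw [res_res, hl]
        have h1 := congrArg (res _ (hpre k).ge) (hcoef k l)
        rw [res_smul, res_res, res_res] at h1
        refine Eq.trans ?_ h1
        congr 1

end CurveAmpLib

end
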