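import Groth.Agent.CurveAmpLib.Main
import Groth.Agent.CurveAmpLib.Embed
import Groth.Agent.CurvLib.Euler
import Groth.Agent.ProjDegLib.Criterion

/-!
# Proper schemes of dimension at most one are projective
-/

set_option autoImplicit false
set_option linter.style.haveILetI false
universe u

open CategoryTheory CategoryTheory.Limits AlgebraicGeometry

namespace CurveAmpLib

/-- A proper curve is projective. -/
theorem exists_proj (k : Type u) [Field k] (X : Scheme.{u}) [X.Over (Spec (CommRingCat.of k))]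
    [IsProper (X ↘ (Spec (CommRingCat.of k)))] (hdim : topologicalKrullDim X ≤ 1) :
    ∃ (N : ℕ) (i : X ⟶ CohB1.ProjSpace N k), IsClosedImmersion i ∧
      i ≫ CohB1.ProjSpace.toSpec N k = X ↘ (Spec (CommRingCat.of k)) := by
  let q := X ↘ (Spec (CommRingCat.of k))
  haveI := CurvLib.isNoetherian k (X := X)
  haveI : X.IsSeparated := ⟨by rw [← terminal.comp_from q]; infer_instance⟩
  obtain ⟨L, hA⟩ := CurveAmpLib.exists_ample hdim
  obtain ⟨N, r, hr, hrq⟩ : ∃ (N : ℕ) (r : X ⟶ CohB1.ProjSpace N k), IsImmersion r ∧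
    r ≫ CohB1.ProjSpace.toSpec N k = q := CurveAmpLib.exists_immersion q hA.1 hA
  haveI := hr
  haveI : IsProper (CohB1.ProjSpace.toSpec N k) := ProjDegLib.toSpec_isProper k N
  haveI : IsProper (r ≫ CohB1.ProjSpace.toSpec N k) := hrq.symm ▸ (inferInstance : IsProper q)
  haveI : IsProper r := IsProper.of_comp r (CohB1.ProjSpace.toSpec N k)
  exact ⟨N, r, IsClosedImmersion.iff_isPreimmersion.2 ⟨inferInstance, r.isClosedMap.isClosed_range⟩, hrq⟩

end CurveAmpLib
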