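import Groth.Agent.UFDExtLib.Point
import Groth.Agent.SemiGlue.Basic
import Mathlib.AlgebraicGeometry.Morphisms.Separated

/-!
# Valuation rings have at most one centre on a separated scheme
-/

set_option autoImplicit false
universe u

open CategoryTheory AlgebraicGeometry TopologicalSpace Opposite

namespace CurveAmpLib

variable {X : Scheme.{u}}

/-- Two centres of a valuation ring on affine charts of a separated scheme coincide. -/
theorem centre_eq [X.IsSeparated] {F : Type u} [Field F] (O : ValuationSubring F) (U₁ U₂ U₃ : X.affineOpens)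
    (h₁ : U₃.1 ≤ U₁.1) (h₂ : U₃.1 ≤ U₂.1) (φ₁ : Γ(X, U₁.1) →+* O) (φ₂ : Γ(X, U₂.1) →+* O) (g : Γ(X, U₃.1) →+* F)
    (e₁ : ∀ a, (φ₁ a : F) = g (X.presheaf.map (homOfLE h₁).op a))
    (e₂ : ∀ a, (φ₂ a : F) = g (X.presheaf.map (homOfLE h₂).op a)) :
    UFDExtLib.pt U₁ ((IsLocalRing.maximalIdeal O).comap φ₁) = UFDExtLib.pt U₂ ((IsLocalRing.maximalIdeal O).comap φ₂) := by
  let j : CommRingCat.of O ⟶ CommRingCat.of F := CommRingCat.ofHom O.subtype
  let g₁ := Spec.map (CommRingCat.ofHom φ₁) ≫ U₁.2.fromSpec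
  let g₂ := Spec.map (CommRingCat.ofHom φ₂) ≫ U₂.2.fromSpec
  haveI : IsDominant (Spec.map j) := by
    refine ⟨?_⟩
    exact (PrimeSpectrum.denseRange_comap_iff_ker_le_nilRadical _).mpr fun a ha => by
      rw [show a = 0 from Subtype.val_injective (RingHom.mem_ker.mp ha)]
      exact Submodule.zero_mem _
  have key : ∀ (U : X.affineOpens) (h : U₃.1 ≤ U.1) (φ : Γ(X, U.1) →+* O),
      (∀ a, (φ a : F) = g (X.presheaf.map (homOfLE h).op a)) →
      Spec.map j ≫ Spec.map (CommRingCat.ofHom φ) ≫ U.2.fromSpec = Spec.map (CommRingCat.ofHom g) ≫ U₃.2.fromSpec := by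
    intro U h φ e
    rw [← U.2.map_fromSpec U₃.2 (homOfLE h).op, ← Category.assoc, ← Category.assoc, ← Spec.map_comp, ← Spec.map_comp]
    congr 2
    exact CommRingCat.hom_ext (RingHom.ext e)
  have h : g₁ = g₂ := by
    refine ext_of_isDominant_of_isSeparated (Limits.terminal.from X) (Limits.terminal.hom_ext _ _) (Spec.map j) ?_
    exact (key U₁ h₁ φ₁ e₁).trans (key U₂ h₂ φ₂ e₂).symm
  exact congrArg (fun k : Spec (CommRingCat.of O) ⟶ X => k ⟨IsLocalRing.maximalIdeal O, inferInstance⟩) h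

/-- A valuation ring dominating a nonfield ring with the same fraction field. -/
theorem exists_valuation {F : Type u} [Field F] (B : Subring F) (hfrac : IsFractionRing B F) (hne : B ≠ ⊤) :
    ∃ O : ValuationSubring F, B ≤ O.toSubring ∧ O ≠ ⊤ := by
  have hB : ¬ IsField B := fun h => hne (by
    rw [eq_top_iff]
    intro z _
    letI := h.toField
    obtain ⟨a, b, hb, rfl⟩ := IsFractionRing.div_surjective B z
    obtain ⟨c, hc⟩ := h.mul_inv_cancel (nonZeroDivisors.ne_zero hb)
    have e : (b : F) * c = 1 := congrArg Subtype.val hc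
    show (a : F) / b ∈ B
    rw [div_eq_mul_inv, inv_eq_of_mul_eq_one_right e]
    exact B.mul_mem a.2 c.2)
  obtain ⟨m, hm⟩ := Ideal.exists_maximal B
  have hm0 : m ≠ ⊥ := fun h => hB (Ring.isField_iff_isSimpleOrder_ideal.mpr (isSimpleOrder_iff_isCoatom_bot.mpr (h ▸ hm.out)))
  obtain ⟨O, hO, hmO⟩ := Ideal.image_subset_nonunits_valuationSubring (A := B) m hm.ne_top
  refine ⟨O, hO, fun h => ?_⟩
  obtain ⟨w, hw, hw0⟩ := Submodule.exists_mem_ne_zero_of_ne_bot hm0
  have : (w : F) ∈ O.nonunits := hmO ⟨w, hw, rfl⟩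
  rw [ValuationSubring.mem_nonunits_iff_or] at this
  rcases this with h' | h'
  · exact hw0 (Subtype.ext h')
  · exact h' (h ▸ ValuationSubring.mem_top _)

/-- A valuation ring other than the field contracts to a nonzero ideal. -/
theorem exists_mem_maximalIdeal {F : Type u} [Field F] {B : Subring F} (hfrac : IsFractionRing B F)
    (O : ValuationSubring F) (hO : B ≤ O.toSubring) (hne : O ≠ ⊤) :
    ∃ b : B, b ≠ 0 ∧ (⟨b.1, hO b.2⟩ : O) ∈ IsLocalRing.maximalIdeal O := by
  by_contra hcon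
  push Not at hcon
  refine hne (eq_top_iff.mpr fun z _ => ?_)
  obtain ⟨a, b, hb, rfl⟩ := IsFractionRing.div_surjective B z
  have hu : IsUnit (⟨b.1, hO b.2⟩ : O) :=
    not_not.mp fun h => hcon b (nonZeroDivisors.ne_zero hb) ((IsLocalRing.mem_maximalIdeal _).mpr h)
  obtain ⟨c, hc⟩ := isUnit_iff_exists_inv.mp hu
  have e : (b : F) * c = 1 := congrArg Subtype.val hc
  show (a : F) / b ∈ O
  rw [div_eq_mul_inv, inv_eq_of_mul_eq_one_right e]
  exact O.mul_mem _ _ (hO a.2) c.2

end CurveAmpLib
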